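import Cfsg.Agent.Lib.Homog.Induced
import Mathlib.GroupTheory.SpecificGroups.Alternating

/-!
A `(k+1)`-set with at least the alternating group induced, in a `k`-transitive group.
-/

set_option autoImplicit false
set_option linter.unusedSectionVars false

namespace Cfsg.Agent.Lib.Homog

open MulAction Finset
open scoped Pointwise

variable {α : Type*} [Fintype α] [DecidableEq α] (G : Subgroup (Equiv.Perm α))

/-- Some labelled `(k+1)`-set on which all even permutations are induced. -/
def HasAltSet (k : ℕ) : Prop :=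
  ∃ e : Fin (k + 1) ↪ α, alternatingGroup (Fin (k + 1)) ≤ induced G e

theorem hasAltSet_of_pretransitive {k : ℕ} (hk : k + 1 ≤ Fintype.card α)
    (h : IsMultiplyPretransitive G α (k + 1)) : HasAltSet G k := by
  obtain ⟨e⟩ : Nonempty (Fin (k + 1) ↪ α) :=
    Function.Embedding.nonempty_of_card_le (by rwa [Fintype.card_fin])
  refine ⟨e, fun σ _ => ?_⟩
  obtain ⟨g, hg⟩ := h.exists_smul_eq e (σ.toEmbedding.trans e)
  exact ⟨g, fun i => DFunLike.congr_fun hg i⟩

theorem hasAltSet_of_alternating_le {k : ℕ} (hk : k + 1 ≤ Fintype.card α)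
    (h : alternatingGroup α ≤ G) : HasAltSet G k := by
  classical
  obtain ⟨e⟩ : Nonempty (Fin (k + 1) ↪ α) :=
    Function.Embedding.nonempty_of_card_le (by rwa [Fintype.card_fin])
  refine ⟨e, fun σ hσ => ?_⟩
  let q : Fin (k + 1) ≃ {x // x ∈ Set.range e} := Equiv.ofInjective e e.injective
  have hmem : σ.extendDomain q ∈ alternatingGroup α := by
    rw [Equiv.Perm.mem_alternatingGroup] at hσ ⊢
    rwa [Equiv.Perm.sign_extendDomain]
  refine ⟨⟨σ.extendDomain q, h hmem⟩, fun i => ?_⟩
  show σ.extendDomain q (e i) = e (σ i)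
  exact σ.extendDomain_apply_image q i

/-- The sharply `k`-transitive case of degree `k + 7`. -/
theorem hasAltSet_sharp {k : ℕ} (hk : 4 ≤ k) (hn : Fintype.card α = k + 7)
    (htr : IsMultiplyPretransitive G α k) (hf : FreeAt G k) : HasAltSet G k := by
  classical
  haveI := htr
  have huniq : ∀ (e : Fin k ↪ α) (g h : G), (∀ i, g • e i = h • e i) → g = h := fun e g h hgh =>
    (inv_mul_eq_one.1 (hf (h⁻¹ * g) (univ.map e) (by simp) fun y hy => by
      obtain ⟨i, -, rfl⟩ := mem_map.1 hy
      rw [mul_smul, hgh, inv_smul_smul])).symm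
  have hg : ∀ (e : Fin k ↪ α) (σ : Equiv.Perm (Fin k)), ∃ g : G, ∀ i, g • e i = e (σ i) := by
    intro e σ
    obtain ⟨g, hg⟩ := MulAction.exists_smul_eq G e (σ.toEmbedding.trans e)
    exact ⟨g, fun i => DFunLike.congr_fun hg i⟩
  choose γ hγ using hg
  have hmul : ∀ e σ τ, γ e (σ * τ) = γ e σ * γ e τ := fun e σ τ => huniq e _ _ fun i => by
    rw [hγ, mul_smul, hγ, hγ]; rfl
  have hone : ∀ e, γ e 1 = 1 := fun e => huniq e _ _ fun i => by rw [hγ, one_smul]; rfl
  have hinv : ∀ e σ, γ e σ⁻¹ = (γ e σ)⁻¹ := fun e σ =>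
    eq_inv_of_mul_eq_one_left (by rw [← hmul, inv_mul_cancel, hone])
  -- number of fixed points outside `e`
  have hout : ∀ (e : Fin k ↪ α) (σ : Equiv.Perm (Fin k)) (q : ℕ), q.Prime → σ ^ q = 1 → σ ≠ 1 →
      ∀ a : ℕ, (univ.filter fun i => σ i = i).card = a →
      ((univ.filter fun y : α => γ e σ • y = y ∧ y ∉ univ.map e).card + a) % q = (k + 7) % q ∧
      (univ.filter fun y : α => γ e σ • y = y ∧ y ∉ univ.map e).card + a < k := by
    intro e σ q hq hσ hσ1 a ha
    have hpow : γ e σ ^ q = 1 := by
      have : ∀ r, γ e (σ ^ r) = γ e σ ^ r := by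
        intro r
        induction r with
        | zero => simpa using hone e
        | succ r ih => rw [pow_succ, pow_succ, hmul, ih]
      rw [← this, hσ, hone]
    have hne : γ e σ ≠ 1 := fun h => hσ1 (Equiv.ext fun i => e.injective (by
      rw [← hγ, h, one_smul]; rfl))
    have hsplit : univ.filter (fun y : α => γ e σ • y = y) =
        (univ.filter fun y : α => γ e σ • y = y ∧ y ∉ univ.map e) ∪
          (univ.filter fun i => σ i = i).map e := by
      ext y
      simp only [mem_filter, mem_univ, true_and, mem_union, mem_map]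
      constructor
      · intro hy
        by_cases h : ∃ i, e i = y
        · obtain ⟨i, rfl⟩ := h
          exact Or.inr ⟨i, e.injective (by rw [← hγ, hy]), rfl⟩
        · exact Or.inl ⟨hy, h⟩
      · rintro (⟨hy, -⟩ | ⟨i, hi, rfl⟩)
        · exact hy
        · rw [hγ, hi]
    have hcard : (univ.filter fun y : α => γ e σ • y = y).card =
        (univ.filter fun y : α => γ e σ • y = y ∧ y ∉ univ.map e).card + a := by
      rw [hsplit, card_union_of_disjoint, card_map, ha]
      rw [disjoint_left]
      intro y hy hy'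
      obtain ⟨i, -, rfl⟩ := mem_map.1 hy'
      exact (mem_filter.1 hy).2.2 (by simp)
    refine ⟨?_, hcard ▸ hf.card_fix_lt G hne⟩
    rw [← hcard]
    have := card_fix_modEq ((γ e σ : G) : Equiv.Perm α) hq (by rw [← Subgroup.coe_pow, hpow]; rfl)
    rw [hn] at this
    exact this
  have hswap : ∀ (e : Fin k ↪ α) (a b : Fin k), a ≠ b →
      (univ.filter fun y : α => γ e (Equiv.swap a b) • y = y ∧ y ∉ univ.map e).card = 1 := by
    intro e a b hab
    have ha : (univ.filter fun i => Equiv.swap a b i = i).card = k - 2 := by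
      have : (univ.filter fun i => Equiv.swap a b i = i) = ({a, b} : Finset (Fin k))ᶜ := by
        ext i
        simp only [mem_filter, mem_univ, true_and, mem_compl, mem_insert, mem_singleton]
        constructor
        · rintro h (rfl | rfl)
          · exact hab ((Equiv.swap_apply_left _ b).symm.trans h).symm
          · exact hab ((Equiv.swap_apply_right a _).symm.trans h)
        · exact fun h => Equiv.swap_apply_of_ne_of_ne (fun e => h (Or.inl e)) (fun e => h (Or.inr e))
      rw [this, card_compl, Fintype.card_fin, card_pair hab]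
    obtain ⟨h1, h2⟩ := hout e (Equiv.swap a b) 2 Nat.prime_two (by rw [pow_two, Equiv.swap_mul_self])
      (fun h => hab (Equiv.swap_eq_one_iff.1 h)) _ ha
    omega
  have hkey : ∀ e : Fin k ↪ α, ∃ x : α, x ∉ univ.map e ∧ (∀ σ, γ e σ • x = x) ∧
      ∀ a b : Fin k, a ≠ b → ∀ z : α, z ∉ univ.map e → γ e (Equiv.swap a b) • z = z → z = x := by
    intro e
    have hp : ∀ a b : Fin k, ∀ hab : a ≠ b, ∃ y : α, (y ∉ univ.map e ∧ γ e (Equiv.swap a b) • y = y) ∧
        ∀ z : α, z ∉ univ.map e → γ e (Equiv.swap a b) • z = z → z = y := by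
      intro a b hab
      obtain ⟨y, hy⟩ := card_eq_one.1 (hswap e a b hab)
      have hm : ∀ z, (γ e (Equiv.swap a b) • z = z ∧ z ∉ univ.map e) ↔ z = y := fun z => by
        simpa [mem_filter] using Finset.ext_iff.1 hy z
      exact ⟨y, ⟨((hm y).2 rfl).2, ((hm y).2 rfl).1⟩, fun z hz hz' => (hm z).1 ⟨hz', hz⟩⟩
    haveI : Nonempty α := ⟨e ⟨0, by omega⟩⟩
    choose! P hP hPu using hp
    have hsh : ∀ a b c : Fin k, a ≠ b → a ≠ c → P a b = P a c := by
      intro a b c hab hac
      rcases eq_or_ne b c with rfl | hbc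
      · rfl
      let r := Equiv.swap a c * Equiv.swap a b
      have h3 : r.IsThreeCycle := Equiv.Perm.isThreeCycle_swap_mul_swap_same hac hab hbc.symm
      have ho : r ^ 3 = 1 := by rw [← h3.orderOf, pow_orderOf_eq_one]
      have ha3 : (univ.filter fun i => r i = i).card = k - 3 := by
        have : (univ.filter fun i => r i = i) = r.supportᶜ := by
          ext i; simp
        rw [this, card_compl, Fintype.card_fin, h3.card_support]
      obtain ⟨h1, h2⟩ := hout e r 3 Nat.prime_three ho
        (fun h => by have := h3.card_support; rw [h] at this; simp at this) _ ha3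
      obtain ⟨y, hy⟩ := card_eq_one.1
        (show (univ.filter fun z : α => γ e r • z = z ∧ z ∉ univ.map e).card = 1 by omega)
      have hm : ∀ z, (γ e r • z = z ∧ z ∉ univ.map e) ↔ z = y := fun z => by
        simpa [mem_filter] using Finset.ext_iff.1 hy z
      have hyr : γ e r • y = y := ((hm y).2 rfl).1
      have hyn : y ∉ univ.map e := ((hm y).2 rfl).2
      have key : ∀ t : Equiv.Perm (Fin k), t * t = 1 → t * r * t = r⁻¹ → γ e t • y = y := by
        intro t ht htr'
        refine (hm _).1 ⟨?_, fun hmem => hyn ?_⟩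
        · have h' : γ e r * γ e t = γ e t * (γ e r)⁻¹ := by
            rw [← hinv, ← hmul, ← hmul, ← htr', mul_assoc t r t, ← mul_assoc t t, ht, one_mul]
          rw [← mul_smul, h', mul_smul, inv_smul_eq_iff.2 hyr.symm]
        · obtain ⟨i, -, hi⟩ := mem_map.1 hmem
          have : γ e t • γ e t • y = y := by rw [← mul_smul, ← hmul, ht, hone, one_smul]
          rw [← hi, hγ] at this
          exact this ▸ mem_map_of_mem e (mem_univ _)
      rw [← hPu a b hab y hyn (key _ (Equiv.swap_mul_self _ _) ?_),
        ← hPu a c hac y hyn (key _ (Equiv.swap_mul_self _ _) ?_)]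
      · simp [r, mul_inv_rev, mul_assoc]
      · simp [r, mul_inv_rev, ← mul_assoc]
    have hsymm : ∀ a b : Fin k, a ≠ b → P a b = P b a := fun a b hab =>
      hPu b a hab.symm _ (hP a b hab).1 (by rw [Equiv.swap_comm]; exact (hP a b hab).2)
    let i₀ : Fin k := ⟨0, by omega⟩
    let i₁ : Fin k := ⟨1, by omega⟩
    have h01 : i₀ ≠ i₁ := by simp [i₀, i₁, Fin.ext_iff]
    have hconst : ∀ a b : Fin k, a ≠ b → P a b = P i₀ i₁ := by
      intro a b hab
      by_cases ha : a = i₀
      · subst ha; exact hsh _ _ _ hab h01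
      · rw [hsh a b i₀ hab ha, hsymm a i₀ ha, hsh i₀ a i₁ (Ne.symm ha) h01]
    refine ⟨P i₀ i₁, (hP _ _ h01).1, fun σ => ?_, fun a b hab z hz hz' => ?_⟩
    · induction σ using Equiv.Perm.swap_induction_on with
      | one => rw [hone, one_smul]
      | swap_mul f a b hab ih =>
        rw [hmul, mul_smul, ih, ← hconst a b hab]
        exact (hP a b hab).2
    · rw [← hconst a b hab]; exact hPu a b hab z hz hz'
  obtain ⟨e⟩ : Nonempty (Fin k ↪ α) :=
    Function.Embedding.nonempty_of_card_le (by rw [Fintype.card_fin]; omega)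
  obtain ⟨x, hx, hxfix, hxu⟩ := hkey e
  let f' : Fin (k + 1) → α := Fin.snoc (α := fun _ => α) (⇑e) x
  have hf' : Function.Injective f' := Fin.snoc_injective_iff.2
    ⟨e.injective, fun ⟨i, hi⟩ => hx (hi ▸ mem_map_of_mem e (mem_univ i))⟩
  let E : Fin (k + 1) ↪ α := ⟨f', hf'⟩
  have hEc : ∀ i : Fin k, E i.castSucc = e i := fun i => by
    show Fin.snoc (α := fun _ => α) (⇑e) x i.castSucc = e i
    rw [Fin.snoc_castSucc]
  have hEl : E (Fin.last k) = x := by
    show Fin.snoc (α := fun _ => α) (⇑e) x (Fin.last k) = x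
    rw [Fin.snoc_last]
  have hreal : ∀ (σ : Equiv.Perm (Fin (k + 1))) (j : Fin (k + 1)), σ j = j → σ ∈ induced G E := by
    intro σ j hj
    let e'' : Fin k ↪ α := (Fin.succAboveEmb j).trans E
    have hne : ∀ i, σ (j.succAbove i) ≠ j := fun i h =>
      Fin.succAbove_ne j i (σ.injective (h.trans hj.symm))
    choose τ hτ using fun i => Fin.exists_succAbove_eq (hne i)
    have hτi : Function.Injective τ := fun a b h =>
      (Fin.succAbove_right_injective (p := j)) (σ.injective (by rw [← hτ a, ← hτ b, h]))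
    obtain ⟨x', hx', hfix', hu'⟩ := hkey e''
    have hxj : x' = E j := by
      have hjm : E j ∉ univ.map e'' := fun h => by
        obtain ⟨i, -, hi⟩ := mem_map.1 h
        exact Fin.succAbove_ne j i (E.injective hi)
      obtain ⟨a, ha⟩ : ∃ a, E j ≠ E (Fin.castSucc a) := ⟨⟨if j.val = 0 then 1 else 0, by
        split <;> omega⟩, fun h => by
        have := congrArg Fin.val (E.injective h)
        simp only [Fin.val_castSucc] at this
        split at this <;> omega⟩
      obtain ⟨b, hb, hb'⟩ : ∃ b : Fin k, b ≠ a ∧ j ≠ b.castSucc := by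
        by_contra hall
        push Not at hall
        have : (univ.erase a).card ≤ 1 := card_le_one.2 fun u hu v hv =>
          Fin.castSucc_injective k ((hall u (ne_of_mem_erase hu)).symm.trans (hall v (ne_of_mem_erase hv)))
        rw [card_erase_of_mem (mem_univ _), card_univ, Fintype.card_fin] at this
        omega
      have haj : j ≠ a.castSucc := fun h => ha (h ▸ rfl)
      obtain ⟨a', ha'⟩ := Fin.exists_succAbove_eq haj.symm
      obtain ⟨b', hb''⟩ := Fin.exists_succAbove_eq hb'.symm
      have hab' : a' ≠ b' := fun h => hb (Fin.castSucc_injective k (by rw [← hb'', ← ha', h]))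
      refine (hu' a' b' hab' (E j) hjm ?_).symm
      -- the same group element
      have hsame : γ e'' (Equiv.swap a' b') = γ e (Equiv.swap a b) := by
        refine huniq e'' _ _ fun i => ?_
        rw [hγ]
        show E (j.succAbove (Equiv.swap a' b' i)) = γ e (Equiv.swap a b) • E (j.succAbove i)
        rw [← (Fin.succAbove_right_injective (p := j)).swap_apply, ha', hb'']
        induction j.succAbove i using Fin.lastCases with
        | last => rw [hEl, hxfix, Equiv.swap_apply_of_ne_of_ne (Fin.castSucc_lt_last a).ne'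
            (Fin.castSucc_lt_last b).ne', hEl]
        | cast v => rw [hEc, hγ, (Fin.castSucc_injective k).swap_apply, hEc]
      rw [hsame]
      induction j using Fin.lastCases with
      | last => rw [hEl, hxfix]
      | cast v =>
        rw [hEc, hγ, Equiv.swap_apply_of_ne_of_ne (fun h => haj (congrArg Fin.castSucc h))
          (fun h => hb' (congrArg Fin.castSucc h))]
    refine ⟨γ e'' (Equiv.ofBijective τ (Finite.injective_iff_bijective.1 hτi)), fun i => ?_⟩
    rcases eq_or_ne i j with rfl | hi
    · rw [hj, ← hxj]; exact hfix' _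
    · obtain ⟨i', rfl⟩ := Fin.exists_succAbove_eq hi
      show γ e'' _ • e'' i' = _
      rw [hγ]
      show E (j.succAbove (τ i')) = _
      rw [hτ]
  refine ⟨E, ?_⟩
  rw [← Equiv.Perm.closure_three_cycles_eq_alternating, Subgroup.closure_le]
  intro σ hσ
  obtain ⟨j, -, hj⟩ := exists_mem_notMem_of_card_lt_card
    (show σ.support.card < (univ : Finset (Fin (k + 1))).card by
      rw [Equiv.Perm.IsThreeCycle.card_support hσ, card_univ, Fintype.card_fin]; omega)
  exact hreal σ j (Equiv.Perm.notMem_support.1 hj)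

/-- The case with no `k + 1` fixed points. -/
theorem hasAltSet_free {k : ℕ} (hk : 4 ≤ k) (hkn : k < Fintype.card α)
    (htr : IsMultiplyPretransitive G α k) (hf : FreeAt G (k + 1)) : HasAltSet G k := by
  classical
  set n := Fintype.card α with hn
  obtain ⟨S, -, hS⟩ := exists_subset_card_eq (s := (univ : Finset α))
    (show k ≤ (univ : Finset α).card by rw [card_univ]; omega)
  set m := Nat.card (fixingSubgroup G (S : Set α)) with hm
  have hG : Nat.card G = n.descFactorial k * m := by
    have := card_fixing_mul G S (by rwa [hS])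
    rw [hS] at this
    rw [hn, hm, ← this, mul_comm]
  have hm0 : 0 < m := Nat.card_pos
  have hmN : m ∣ n - k := by
    let Y : SubMulAction (fixingSubgroup G (S : Set α)) α :=
      { carrier := (S : Set α)ᶜ
        smul_mem' := fun g y hy hgy => hy (by
          have h := (mem_fixingSubgroup_iff G).1 g.2 _ hgy
          rwa [show y = (g : G) • y from (MulAction.injective (g : G) h).symm]) }
    have hY : Nat.card Y = n - k := by
      show Nat.card ↥((S : Set α)ᶜ) = n - k
      rw [Nat.card_coe_set_eq, Set.ncard_compl, Set.ncard_coe_finset, hS, Nat.card_eq_fintype_card]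
    rw [← hY]
    refine card_dvd_of_free fun g z hz => Subtype.ext (hf g (insert (z : α) S) ?_ fun y hy => ?_)
    · rw [card_insert_of_notMem (fun h => z.2 (mem_coe.2 h)), hS]
    · rcases mem_insert.1 hy with rfl | hy
      · exact congrArg Subtype.val hz
      · exact (mem_fixingSubgroup_iff G).1 g.2 y hy
  by_cases hmN' : m = n - k
  · refine hasAltSet_of_pretransitive G hkn (pretransitive_of_card G hf ?_)
    rw [hG, hmN', Nat.descFactorial_succ, mul_comm]
  have hnb : n ≤ k + 8 := card_le_of_pretransitive (by omega) hkn.le htr fun g hg => by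
    have := hf.card_fix_lt G hg
    omega
  have hN : n - k ≤ 8 := by omega
  have hN0 : 0 < n - k := by omega
  have hlt : m < n - k := lt_of_le_of_ne (Nat.le_of_dvd hN0 hmN) hmN'
  have tower : ∀ t, t ≤ k → ∃ (β : Type _) (_ : Fintype β) (_ : DecidableEq β)
      (H : Subgroup (Equiv.Perm β)), Fintype.card β = n - k + t ∧ IsMultiplyPretransitive H β t ∧
      Nat.card H = (n - k + t).descFactorial t * m ∧ FreeAt H (t + 1) := by
    intro t ht
    obtain ⟨β, i1, i2, H, h1, h2, h3, h4⟩ :=
      exists_tower G (s := k) (d := k - t) (t := t) (j := t + 1) (by omega) hkn.le htr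
        (by rw [← hn]; exact hG) (by rwa [show t + 1 + (k - t) = k + 1 by omega])
    refine ⟨β, i1, i2, H, ?_, h2, ?_, h4⟩
    · rw [h1]; omega
    · rw [h3, show Fintype.card α - (k - t) = n - k + t by omega]
  by_cases hm2 : 2 ∣ m
  · have hcases : (n - k = 4 ∧ m = 2) ∨ (n - k = 6 ∧ m = 2) ∨ (n - k = 8 ∧ m = 2) ∨
        (n - k = 8 ∧ m = 4) := by
      have : ∀ N ∈ range 9, ∀ m ∈ range 9, m < N → m ∣ N → 2 ∣ m →
          (N = 4 ∧ m = 2) ∨ (N = 6 ∧ m = 2) ∨ (N = 8 ∧ m = 2) ∨ (N = 8 ∧ m = 4) := by decide
      exact this _ (mem_range.2 (by omega)) m (mem_range.2 (by omega)) hlt hmN hm2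
    obtain ⟨γ, _, _, K, hγ, -, hK, hfK⟩ := tower 3 (by omega)
    rcases hcases with ⟨hN', hm'⟩ | ⟨hN', hm'⟩ | ⟨hN', hm'⟩ | ⟨hN', hm'⟩ <;>
      rw [hN'] at hγ hK <;> rw [hm'] at hK
    · exact (sylow_contradiction K 7 420 10 (by norm_num) (by omega) (by norm_num) hfK
        (by rw [hK]; rfl) (by norm_num) (by norm_num) (by decide)).elim
    · exact (sylow_contradiction K 7 1008 24 (by norm_num) (by omega) (by norm_num) hfK
        (by rw [hK]; rfl) (by norm_num) (by norm_num) (by decide)).elim
    · exact (sylow_contradiction K 11 1980 18 (by norm_num) (by omega) (by norm_num) hfK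
        (by rw [hK]; rfl) (by norm_num) (by norm_num) (by decide)).elim
    · exact (sylow_contradiction K 11 3960 36 (by norm_num) (by omega) (by norm_num) hfK
        (by rw [hK]; rfl) (by norm_num) (by norm_num) (by decide)).elim
  rcases eq_or_ne (n - k) 2 with h2 | h2
  · have hm1 : m = 1 := by omega
    refine hasAltSet_of_alternating_le G hkn ?_
    refine (eq_alternating (n := n) hn.symm hG ?_).ge
    rw [hm1, mul_one, show k = n - 2 by omega]
    have h := Nat.factorial_mul_descFactorial (show n - 2 ≤ n by omega)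
    rwa [show n - (n - 2) = 2 by omega] at h
  obtain ⟨β, _, _, H, hβ, hHt, hH, hfH⟩ := tower 4 hk
  have h3 : 3 ≤ n - k := by omega
  rcases four_trans_odd H hHt (by omega) (by rw [hβ]; exact hH) hfH hm2 with h11 | ⟨h7, hm3⟩
  · have h7 : n - k = 7 := by omega
    have hm1 : m = 1 := by
      rw [h7] at hmN hlt
      rcases (Nat.dvd_prime (show Nat.Prime 7 by norm_num)).1 hmN with h | h <;> omega
    refine hasAltSet_sharp G hk (by omega) htr (freeAt_of_card_eq_one G fun s hs => ?_)
    have := card_fixing_mul G s (by rwa [hs])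
    rw [hs, hG, hm1, ← hn, mul_one] at this
    have h0 : 0 < n.descFactorial k := Nat.descFactorial_pos.2 hkn.le
    exact le_of_eq (Nat.eq_of_mul_eq_mul_right h0 (this.trans (one_mul _).symm))
  · omega

theorem hasAltSet_of_multiplyPretransitive.{u} {k : ℕ} (hk : 4 ≤ k) (n : ℕ) :
    ∀ {α : Type u} [Fintype α] [DecidableEq α] (G : Subgroup (Equiv.Perm α)),
      Fintype.card α = n → k < n → IsMultiplyPretransitive G α k → HasAltSet G k := by
  induction n using Nat.strong_induction_on with
  | _ n ih =>
  intro α _ _ G hn hkn htr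
  classical
  subst hn
  by_cases hf : FreeAt G (k + 1)
  · exact hasAltSet_free G hk hkn htr hf
  simp only [FreeAt, not_forall] at hf
  obtain ⟨g, s, hs, hgs, hg1⟩ := hf
  obtain ⟨p, hp, hpd⟩ := Nat.exists_prime_and_dvd (orderOf_eq_one_iff.not.2 hg1)
  haveI := Fact.mk hp
  set g' := g ^ (orderOf g / p) with hg'
  have hg'p : orderOf g' = p := orderOf_pow_orderOf_div (orderOf_pos g).ne' hpd
  let fixOf : Subgroup G → Finset α := fun R => univ.filter fun y => ∀ x ∈ R, x • y = y
  have hfixOf : ∀ R y, y ∈ fixOf R ↔ ∀ x ∈ R, x • y = y := fun R y => by simp [fixOf]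
  have hg'R : IsPGroup p (Subgroup.zpowers g') ∧ k + 1 ≤ (fixOf (Subgroup.zpowers g')).card := by
    refine ⟨IsPGroup.of_card (n := 1) (by rw [Nat.card_zpowers, hg'p, pow_one]), ?_⟩
    rw [← hs]
    refine card_le_card fun y hy => (hfixOf _ _).2 fun x hx => ?_
    obtain ⟨i, rfl⟩ := hx
    have : g' ∈ stabilizer G y := pow_mem (show g ∈ stabilizer G y from hgs y hy) _
    exact zpow_mem this i
  obtain ⟨R, hR, hRmax⟩ := Finset.exists_max_image
    (univ.filter fun R : Subgroup G => IsPGroup p R ∧ k + 1 ≤ (fixOf R).card)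
    (fun R => Nat.card R) ⟨_, mem_filter.2 ⟨mem_univ _, hg'R⟩⟩
  obtain ⟨hRp, hRf⟩ := (mem_filter.1 hR).2
  obtain ⟨v, hv⟩ := IsPGroup.iff_card.1 hRp
  have hv0 : 1 ≤ v := by
    have h := hRmax _ (mem_filter.2 ⟨mem_univ _, hg'R⟩)
    rw [Nat.card_zpowers, hg'p, hv] at h
    rcases Nat.eq_zero_or_pos v with rfl | h0
    · simp at h; have := hp.two_le; omega
    · exact h0
  set F := fixOf R with hFdef
  have hF : ∀ y, y ∈ F ↔ ∀ x ∈ R, x • y = y := hfixOf R
  have hFlt : F.card < Fintype.card α := by
    rw [Finset.card_lt_iff_ne_univ]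
    intro hu
    have : R = ⊥ := by
      rw [Subgroup.eq_bot_iff_forall]
      intro x hx
      exact Subtype.ext (Equiv.ext fun y => (hF y).1 (hu ▸ mem_univ y) x hx)
    rw [this, Subgroup.card_bot] at hv
    exact absurd hv.symm (Nat.one_lt_pow (by omega) hp.one_lt).ne'
  obtain ⟨S, hSF, hS⟩ := exists_subset_card_eq (show k ≤ F.card by omega)
  have hd0 : 0 < (Fintype.card α).descFactorial k := Nat.descFactorial_pos.2 hkn.le
  have hKS : ∀ T : Finset α, T.card = k →
      Nat.card (fixingSubgroup G (T : Set α)) = Nat.card (fixingSubgroup G (S : Set α)) := by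
    intro T hT
    have h1 := card_fixing_mul G T (by rwa [hT])
    have h2 := card_fixing_mul G S (by rwa [hS])
    rw [hT] at h1
    rw [hS] at h2
    exact Nat.eq_of_mul_eq_mul_right hd0 (h1.trans h2.symm)
  let N : Subgroup G := Subgroup.normalizer (R : Set G)
  have hNF : ∀ g : N, ∀ y ∈ F, (g : G) • y ∈ F := by
    intro g y hy
    refine (hF _).2 fun x hx => ?_
    have h' : (g : G)⁻¹ * x * g ∈ R := (Subgroup.mem_normalizer_iff''.1 g.2 x).1 hx
    have := (hF y).1 hy _ h'
    rwa [mul_smul, mul_smul, inv_smul_eq_iff] at this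
  let X : SubMulAction N α := { carrier := ↑F, smul_mem' := fun g y hy => hNF g y hy }
  let φ : N →* Equiv.Perm ↥F :=
    { toFun := fun g => (MulAction.toPermHom N X g : Equiv.Perm ↥F)
      map_one' := map_one (MulAction.toPermHom N X)
      map_mul' := map_mul (MulAction.toPermHom N X) }
  have hφ : ∀ (g : N) (y : ↥F), ((φ g y : ↥F) : α) = (g : G) • (y : α) := fun _ _ => rfl
  let ι : ↥F ↪ α := Function.Embedding.subtype _
  have hX : IsMultiplyPretransitive φ.range ↥F k := by
    by_cases hSyl : (Nat.card (fixingSubgroup G (S : Set α))).factorization p = v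
    · rw [isMultiplyPretransitive_iff]
      intro x y
      haveI := htr
      obtain ⟨g, hg⟩ := MulAction.exists_smul_eq G (x.trans ι) (y.trans ι)
      obtain ⟨g', hg', h'⟩ := witt_lemma G hp R hF (x.trans ι) (y.trans ι)
        (fun i => (x i).2) (fun i => (y i).2) (by rw [hv, hKS _ (by simp), hSyl]) g
        (fun i => DFunLike.congr_fun hg i)
      exact ⟨⟨φ ⟨g', hg'⟩, _, rfl⟩,
        Function.Embedding.ext fun i => Subtype.ext ((hφ _ _).trans (h' i))⟩
    · refine Cfsg.Agent.S0743.result φ.range (p := p) hp (by omega)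
        (by rw [Fintype.card_coe]; omega) fun s hs => ?_
      let T : Finset α := s.map ι
      have hT : T.card = k := by simp [T, hs]
      have hTF : ∀ y ∈ T, y ∈ F := fun y hy => by
        obtain ⟨z, -, rfl⟩ := mem_map.1 hy
        exact z.2
      have hRT : R ≤ fixingSubgroup G (T : Set α) := fun x hx =>
        (mem_fixingSubgroup_iff G).2 fun y hy => (hF y).1 (hTF y hy) x hx
      obtain ⟨Q₀, hQ₀⟩ :=
        ((hRp.comap_subtype : IsPGroup p (R.subgroupOf (fixingSubgroup G (T : Set α))))).exists_le_sylow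
      let Q : Subgroup G := (Q₀ : Subgroup (fixingSubgroup G (T : Set α))).map
        (fixingSubgroup G (T : Set α)).subtype
      have hRQ : R ≤ Q := fun x hx => ⟨⟨x, hRT hx⟩, hQ₀ hx, rfl⟩
      have hQp : IsPGroup p Q := Q₀.2.map _
      have hQT : Q ≤ fixingSubgroup G (T : Set α) := Subgroup.map_subtype_le _
      have hRQ' : R.subgroupOf Q < ⊤ := by
        refine lt_top_iff_ne_top.2 fun hEq => ?_
        rw [Subgroup.subgroupOf_eq_top] at hEq
        have hQc : Nat.card Q = p ^ (Nat.card (fixingSubgroup G (T : Set α))).factorization p := by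
          rw [Subgroup.card_map_of_injective (Subgroup.subtype_injective _)]
          exact Q₀.card_eq_multiplicity
        rw [← le_antisymm hRQ hEq, hv, hKS T hT] at hQc
        exact hSyl (Nat.pow_right_injective hp.two_le hQc).symm
      haveI := hQp.isNilpotent
      have hlt : R.subgroupOf Q < Subgroup.normalizer ((R.subgroupOf Q : Subgroup Q) : Set Q) :=
        Group.normalizerCondition_of_isNilpotent _ hRQ'
      obtain ⟨w, hw, hwR⟩ := SetLike.exists_of_lt hlt
      let W : Subgroup N := (Q ⊓ N).subgroupOf N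
      refine ⟨W.map φ.rangeRestrict, ?_, ?_⟩
      · refine IsPGroup.map ?_ _
        exact (hQp.to_le inf_le_left).comap_subtype
      ext z
      constructor
      · intro hz
        by_contra hzs
        have hzT : (z : α) ∉ T := by simpa [T, ι] using hzs
        have hwN : (w : G) ∈ N := by
          rw [Subgroup.mem_normalizer_iff]
          intro x
          constructor
          · intro hx
            exact (Subgroup.mem_normalizer_iff.1 hw ⟨x, hRQ hx⟩).1 hx
          · intro hx
            have hxQ : x ∈ Q := by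
              have := Q.mul_mem (Q.mul_mem (Q.inv_mem w.2) (hRQ hx)) w.2
              simpa [mul_assoc] using this
            exact (Subgroup.mem_normalizer_iff.1 hw ⟨x, hxQ⟩).2 hx
        have hmem : Q ⊓ N ∈ univ.filter fun R : Subgroup G =>
            IsPGroup p R ∧ k + 1 ≤ (fixOf R).card := by
          refine mem_filter.2 ⟨mem_univ _, hQp.to_le inf_le_left, ?_⟩
          rw [← hT, ← card_insert_of_notMem hzT]
          refine card_le_card fun y hy => (hfixOf _ _).2 fun x hx => ?_
          rcases mem_insert.1 hy with rfl | hy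
          · exact congrArg Subtype.val
              (hz ⟨φ.rangeRestrict ⟨x, hx.2⟩, ⟨⟨x, hx.2⟩, hx, rfl⟩⟩)
          · exact (mem_fixingSubgroup_iff G).1 (hQT hx.1) y hy
        have hRN : R ≤ Q ⊓ N := le_inf hRQ Subgroup.le_normalizer
        have : (w : G) ∈ R :=
          (Subgroup.eq_of_le_of_card_ge hRN (hRmax _ hmem)) ▸ ⟨w.2, hwN⟩
        exact hwR this
      · intro hzs x
        obtain ⟨⟨g, hg⟩, hg', hgg⟩ := x.2
        refine Subtype.ext ?_
        show (((x.1 : φ.range) : Equiv.Perm ↥F) z : α) = z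
        rw [← hgg]
        show g • (z : α) = z
        exact (mem_fixingSubgroup_iff G).1 (hQT hg'.1) _
          (mem_coe.2 (mem_map_of_mem ι (mem_coe.1 hzs)))
  obtain ⟨e', he'⟩ := ih F.card hFlt φ.range (Fintype.card_coe F) (by omega) hX
  refine ⟨e'.trans ι, fun σ hσ => ?_⟩
  obtain ⟨⟨_, g, rfl⟩, hg⟩ := he' hσ
  exact ⟨g, fun i => congrArg Subtype.val (hg i)⟩

end Cfsg.Agent.Lib.Homog
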