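import Mathlib.GroupTheory.GroupAction.MultipleTransitivity
import Mathlib.GroupTheory.GroupAction.SubMulAction.Combination
import Mathlib.GroupTheory.GroupAction.Quotient
import Mathlib.GroupTheory.Perm.Cycle.Type
import Mathlib.GroupTheory.Subgroup.Centralizer
import Mathlib.GroupTheory.SpecificGroups.Cyclic
import Mathlib.GroupTheory.Sylow
import Mathlib.Data.Fintype.CardEmbedding

/-!
Counting in homogeneous permutation groups.
-/

set_option autoImplicit false

namespace Cfsg.Agent.Lib.Homog

open MulAction Finset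
open scoped Pointwise

variable {α : Type*} [Fintype α] [DecidableEq α] (G : Subgroup (Equiv.Perm α))

theorem card_fixing_eq_of_homog {j : ℕ} (h : IsPretransitive G (Set.powersetCard α j))
    (s t : Finset α) (hs : s.card = j) (ht : t.card = j) :
    Nat.card (fixingSubgroup G (s : Set α)) = Nat.card (fixingSubgroup G (t : Set α)) := by
  have key : ∀ a b : Finset α, a.card = j → b.card = j →
      Nat.card (fixingSubgroup G (a : Set α)) ≤ Nat.card (fixingSubgroup G (b : Set α)) := by
    intro a b ha hb
    obtain ⟨g, hg⟩ := h.exists_smul_eq ⟨a, ha⟩ ⟨b, hb⟩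
    have hg' : g • a = b := congrArg Subtype.val hg
    refine Nat.card_le_card_of_injective
      (fun c : fixingSubgroup G (a : Set α) =>
        (⟨g * c * g⁻¹, ?_⟩ : fixingSubgroup G (b : Set α))) ?_
    · rw [mem_fixingSubgroup_iff]
      intro y hy
      rw [mem_coe, ← hg', Finset.mem_smul_finset] at hy
      obtain ⟨x, hx, rfl⟩ := hy
      simp only [mul_smul, inv_smul_smul]
      rw [(mem_fixingSubgroup_iff G).1 c.2 x hx]
    · intro x y hxy
      exact Subtype.ext (mul_left_cancel (mul_right_cancel (congrArg Subtype.val hxy)))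
  exact le_antisymm (key s t hs ht) (key t s ht hs)

/-- No nontrivial element fixes `j` points. -/
def FreeAt (j : ℕ) : Prop :=
  ∀ (g : G) (s : Finset α), s.card = j → (∀ y ∈ s, g • y = y) → g = 1

theorem freeAt_of_card_eq_one {j : ℕ}
    (h : ∀ s : Finset α, s.card = j → Nat.card (fixingSubgroup G (s : Set α)) ≤ 1) :
    FreeAt G j := by
  intro g s hs hg
  haveI := Finite.card_le_one_iff_subsingleton.1 (h s hs)
  exact congrArg Subtype.val (Subsingleton.elim
    (⟨g, (mem_fixingSubgroup_iff G).2 fun y hy => hg y hy⟩ : fixingSubgroup G (s : Set α)) 1)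

theorem FreeAt.mono {j k : ℕ} (h : FreeAt G j) (hjk : j ≤ k) : FreeAt G k := by
  intro g s hs hg
  obtain ⟨t, hts, ht⟩ := exists_subset_card_eq (show j ≤ s.card by omega)
  exact h g t ht fun y hy => hg y (hts hy)

theorem FreeAt.card_fix_lt {j : ℕ} (h : FreeAt G j) {g : G} (hg : g ≠ 1) :
    (univ.filter fun y : α => g • y = y).card < j := by
  by_contra hlt
  obtain ⟨t, hts, ht⟩ :=
    exists_subset_card_eq (show j ≤ (univ.filter fun y : α => g • y = y).card by omega)
  exact hg (h g t ht fun y hy => (mem_filter.1 (hts hy)).2)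

theorem card_eq_choose_mul {j : ℕ} (hjn : j ≤ Fintype.card α)
    (h : IsPretransitive G (Set.powersetCard α j)) (hf : FreeAt G j) :
    ∃ l : ℕ, 0 < l ∧ l ∣ j.factorial ∧ Nat.card G = (Fintype.card α).choose j * l := by
  obtain ⟨s, -, hs⟩ := exists_subset_card_eq (s := (univ : Finset α))
    (show j ≤ (univ : Finset α).card by rwa [card_univ])
  let e : Set.powersetCard α j := ⟨s, hs⟩
  haveI := h
  refine ⟨Nat.card (stabilizer G e), Nat.card_pos, ?_, ?_⟩
  · have hmem : ∀ g : stabilizer G e, ∀ y, (g : G) • y ∈ s ↔ y ∈ s := by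
      intro g y
      have hg : (g : G) • s = s := congrArg Subtype.val g.2
      conv_lhs => rw [← hg]
      exact Finset.smul_mem_smul_finset_iff _
    let φ : stabilizer G e →* Equiv.Perm s :=
      { toFun := fun g => ((g : G) : Equiv.Perm α).subtypePerm (hmem g)
        map_one' := by ext; rfl
        map_mul' := fun a b => by ext; rfl }
    have hinj : Function.Injective φ := by
      rw [injective_iff_map_eq_one]
      intro g hg
      refine Subtype.ext (hf g s hs fun y hy => ?_)
      exact congrArg Subtype.val (Equiv.ext_iff.1 hg ⟨y, hy⟩)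
    have := Subgroup.card_dvd_of_injective φ hinj
    rwa [Nat.card_perm, Nat.card_eq_finsetCard, hs] at this
  · rw [← Nat.card_eq_fintype_card (α := α), ← Set.powersetCard.card, ← index_stabilizer_of_transitive G e]
    exact (Subgroup.index_mul_card _).symm

omit [DecidableEq α] in
theorem descFactorial_dvd_card' {M : Type*} [Group M] [MulAction M α] {j : ℕ}
    (hjn : j ≤ Fintype.card α) (h : IsMultiplyPretransitive M α j) :
    (Fintype.card α).descFactorial j ∣ Nat.card M := by
  classical
  obtain ⟨e⟩ : Nonempty (Fin j ↪ α) :=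
    Function.Embedding.nonempty_of_card_le (by rwa [Fintype.card_fin])
  have hc : Nat.card (Fin j ↪ α) = (Fintype.card α).descFactorial j := by
    rw [Nat.card_eq_fintype_card, Fintype.card_embedding_eq, Fintype.card_fin]
  haveI := h
  rw [← hc, ← index_stabilizer_of_transitive M e]
  exact Subgroup.index_dvd_card _

omit [DecidableEq α] in
theorem pretransitive_of_card' {M : Type*} [Group M] [MulAction M α] [Finite M] {j : ℕ}
    (hf : ∀ (g : M) (s : Finset α), s.card = j → (∀ y ∈ s, g • y = y) → g = 1)
    (hc : Nat.card M = (Fintype.card α).descFactorial j) : IsMultiplyPretransitive M α j := by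
  classical
  rw [isMultiplyPretransitive_iff]
  intro x y
  have hinj : Function.Injective fun g : M => g • x := by
    intro a b hab
    have hab' : a • x = b • x := hab
    have : b⁻¹ * a = 1 := hf _ (univ.map x) (by simp) (fun z hz => by
      obtain ⟨i, -, rfl⟩ := mem_map.1 hz
      have := DFunLike.congr_fun (show (b⁻¹ * a) • x = x by rw [mul_smul, hab', inv_smul_smul]) i
      simpa [Function.Embedding.smul_apply] using this)
    exact (inv_mul_eq_one.1 this).symm
  haveI : Fintype M := Fintype.ofFinite _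
  have hbij : Function.Bijective fun g : M => g • x := by
    rw [Fintype.bijective_iff_injective_and_card]
    refine ⟨hinj, ?_⟩
    rw [← Nat.card_eq_fintype_card, hc, Fintype.card_embedding_eq, Fintype.card_fin]
  exact hbij.2 y

theorem descFactorial_dvd_card {j : ℕ} (hjn : j ≤ Fintype.card α)
    (h : IsMultiplyPretransitive G α j) : (Fintype.card α).descFactorial j ∣ Nat.card G :=
  descFactorial_dvd_card' hjn h

theorem pretransitive_of_card {j : ℕ} (hf : FreeAt G j)
    (hc : Nat.card G = (Fintype.card α).descFactorial j) : IsMultiplyPretransitive G α j :=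
  pretransitive_of_card' hf hc

theorem pretransitive_of_homog_one (h : IsPretransitive G (Set.powersetCard α 1)) :
    IsMultiplyPretransitive G α 1 := by
  rw [is_one_pretransitive_iff]
  refine ⟨fun a b => ?_⟩
  obtain ⟨g, hg⟩ := h.exists_smul_eq ⟨{a}, card_singleton a⟩ ⟨{b}, card_singleton b⟩
  have h' : g • ({a} : Finset α) = {b} := congrArg Subtype.val hg
  rw [Finset.smul_finset_singleton] at h'
  exact ⟨g, Finset.singleton_inj.1 h'⟩

theorem centralizer_prime_cycle {p j : ℕ} (hn : Fintype.card α < 2 * p) (hjp : j ≤ p)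
    (hf : FreeAt G j) (hp : p.Prime) {q : G} (hq : orderOf q = p) {c : G}
    (hc : Commute c q) : c ∈ Subgroup.zpowers q := by
  classical
  set σ : Equiv.Perm α := (q : Equiv.Perm α) with hσdef
  have hσ : orderOf σ = p := (Subgroup.orderOf_coe q).trans hq
  have hcyc : σ.IsCycle := Equiv.Perm.isCycle_of_prime_order' (hσ.symm ▸ hp) (by rwa [hσ])
  have hsupp : σ.support.card = p := by rw [← hcyc.orderOf, hσ]
  obtain ⟨x, hx⟩ : ∃ x, σ x ≠ x := hcyc.imp fun x h => h.1
  have hc' : Commute (c : Equiv.Perm α) σ := hc.map G.subtype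
  have hcomm : ∀ y, σ ((c : Equiv.Perm α) y) = (c : Equiv.Perm α) (σ y) :=
    fun y => (Equiv.Perm.ext_iff.1 hc'.eq y).symm
  have hcx : σ ((c : Equiv.Perm α) x) ≠ (c : Equiv.Perm α) x := fun h =>
    hx ((c : Equiv.Perm α).injective ((hcomm x).symm.trans h))
  obtain ⟨i, hi⟩ := hcyc.exists_zpow_eq hx hcx
  refine ⟨i, ?_⟩
  have : (q ^ i)⁻¹ * c = 1 := hf.mono G hjp _ σ.support hsupp fun y hy => by
    rw [Equiv.Perm.mem_support] at hy
    obtain ⟨k, rfl⟩ := hcyc.exists_zpow_eq hx hy
    rw [mul_smul, inv_smul_eq_iff]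
    show (c : Equiv.Perm α) ((σ ^ k) x) = ((q ^ i : G) : Equiv.Perm α) ((σ ^ k) x)
    rw [Subgroup.coe_zpow, ← hσdef, ← Equiv.Perm.mul_apply (σ ^ i), ← zpow_add, add_comm, zpow_add,
      Equiv.Perm.mul_apply, hi]
    exact Equiv.Perm.ext_iff.1 (hc'.zpow_right k).eq x
  exact inv_mul_eq_one.1 this

theorem freeAt_of_card_le {p : ℕ} (hn : Fintype.card α ≤ p + 1) : FreeAt G p := by
  classical
  intro g s hs hg
  refine Subtype.ext (Equiv.ext fun y => ?_)
  show (g : Equiv.Perm α) y = y
  by_cases hy : y ∈ s
  · exact hg y hy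
  by_contra hne
  have hgy : (g : Equiv.Perm α) y ∉ s := fun h =>
    hne ((g : Equiv.Perm α).injective (hg _ h))
  have := card_le_univ (insert y (insert ((g : Equiv.Perm α) y) s))
  rw [card_insert_of_notMem (by simp [Ne.symm hne, hy]), card_insert_of_notMem hgy, hs] at this
  omega

/-- Sylow counting for a prime `p > n / 2` in a permutation group of degree `n`. -/
theorem exists_sylow_count {p j : ℕ} (hn : Fintype.card α < 2 * p) (hjp : j ≤ p) (hf : FreeAt G j)
    (hp : p.Prime) (hdvd : p ∣ Nat.card G) :
    ∃ a : ℕ, a % p = 1 ∧ a ∣ Nat.card G ∧ Nat.card G ∣ a * (p * (p - 1)) := by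
  classical
  haveI := Fact.mk hp
  obtain ⟨P⟩ := (Sylow.nonempty : Nonempty (Sylow p G))
  refine ⟨Nat.card (Sylow p G), ?_, P.card_dvd_index.trans (Subgroup.index_dvd_card _), ?_⟩
  · have := card_sylow_modEq_one p G
    rwa [Nat.ModEq, Nat.mod_eq_of_lt hp.one_lt] at this
  -- the Sylow subgroup is generated by a `p`-cycle and is self-centralising
  haveI : Nontrivial (P : Subgroup G) := by
    rw [← Finite.one_lt_card_iff_nontrivial]
    exact lt_of_lt_of_le hp.one_lt (Nat.le_of_dvd Nat.card_pos (P.dvd_card_of_dvd_card hdvd))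
  haveI := P.isPGroup'.center_nontrivial
  obtain ⟨z, hz⟩ := exists_prime_orderOf_dvd_card' (G := Subgroup.center (P : Subgroup G)) p (by
    obtain ⟨m, hm⟩ := (P.isPGroup'.to_subgroup (Subgroup.center (P : Subgroup G))).exists_card_eq
    rcases m with _ | m
    · have := Finite.one_lt_card_iff_nontrivial.2 (inferInstance :
        Nontrivial (Subgroup.center (P : Subgroup G)))
      rw [hm, pow_zero] at this
      omega
    · rw [hm]; exact dvd_pow_self _ (Nat.succ_ne_zero _))
  set q : G := ((z : (P : Subgroup G)) : G) with hq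
  have hq' : orderOf q = p := by
    rw [hq, Subgroup.orderOf_coe, Subgroup.orderOf_coe, hz]
  have hcent : ∀ c : G, Commute c q → c ∈ Subgroup.zpowers q := fun c hc =>
    centralizer_prime_cycle G hn hjp hf hp hq' hc
  have hPle : (P : Subgroup G) = Subgroup.zpowers q := by
    refine le_antisymm (fun c hc => hcent c ?_) ?_
    · exact congrArg Subtype.val (Subgroup.mem_center_iff.1 z.2 ⟨c, hc⟩)
    · rw [Subgroup.zpowers_le]
      exact (z : (P : Subgroup G)).2
  have hPcard : Nat.card (P : Subgroup G) = p := by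
    rw [hPle, Nat.card_zpowers, hq']
  haveI : IsCyclic (P : Subgroup G) := isCyclic_of_prime_card hPcard
  let N : Subgroup G := Subgroup.normalizer (P : Subgroup G)
  have hidx : Nat.card (Sylow p G) * Nat.card N = Nat.card G := by
    rw [Sylow.card_eq_index_normalizer P]
    exact Subgroup.index_mul_card _
  rw [← hidx]
  refine Nat.mul_dvd_mul_left _ ?_
  let φ := (P : Subgroup G).normalizerMonoidHom
  have hker : Nat.card φ.ker ∣ p := by
    have : φ.ker.map N.subtype ≤ (P : Subgroup G) := by
      rintro _ ⟨c, hc, rfl⟩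
      rw [SetLike.mem_coe, Subgroup.normalizerMonoidHom_ker, Subgroup.mem_subgroupOf] at hc
      show (c : G) ∈ (P : Subgroup G)
      rw [hPle]
      exact hcent _ (Subgroup.mem_centralizer_iff.1 hc q (by rw [hPle]; exact Subgroup.mem_zpowers q)).symm
    have h := Subgroup.card_dvd_of_le this
    rw [hPcard, Subgroup.card_map_of_injective N.subtype_injective] at h
    exact h
  have hran : Nat.card φ.range ∣ p - 1 := by
    have h := Subgroup.card_subgroup_dvd_card φ.range
    rw [IsCyclic.card_mulAut, hPcard, Nat.totient_prime hp] at h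
    exact h
  have h := φ.ker.card_mul_index
  rw [Subgroup.index_ker] at h
  rw [← h]
  exact Nat.mul_dvd_mul hker hran

end Cfsg.Agent.Lib.Homog
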