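import Cfsg.Agent.Lib.Homog.DegreeBound

/-!
Degree bound for highly transitive groups in which point fixers are small.
-/

set_option autoImplicit false

namespace Cfsg.Agent.Lib.Homog

open MulAction Finset

/-- A faithful `t`-transitive group, `t ≥ 4`, in which only the identity fixes more than `t`
points has degree at most `t + 8`. -/
theorem card_le_of_pretransitive {G Ω : Type*} [Group G] [MulAction G Ω] [Fintype Ω]
    [DecidableEq Ω] [Finite G] {t : ℕ} (ht : 4 ≤ t) (htn : t ≤ Fintype.card Ω)
    (htr : IsMultiplyPretransitive G Ω t)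
    (hfix : ∀ g : G, g ≠ 1 → (univ.filter fun y : Ω => g • y = y).card ≤ t) :
    Fintype.card Ω ≤ t + 8 := by
  classical
  obtain ⟨T, -, hT⟩ := exists_subset_card_eq (s := (univ : Finset Ω))
    (show t - 4 ≤ (univ : Finset Ω).card by rw [card_univ]; omega)
  let S : Set Ω := (T : Set Ω)
  have hS : S.ncard = t - 4 := (Set.ncard_coe_finset T).trans hT
  haveI := htr
  have h4 : IsMultiplyPretransitive (fixingSubgroup G S) (SubMulAction.ofFixingSubgroup G S) 4 :=
    SubMulAction.ofFixingSubgroup.isMultiplyPretransitive G S (n := t) (by rw [hS]; omega)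
  haveI : Fintype (SubMulAction.ofFixingSubgroup G S) := Fintype.ofFinite _
  have key := card_le_twelve_of_four_pretransitive h4 (fun g hg => ?_)
  · have hc : Fintype.card (SubMulAction.ofFixingSubgroup G S) = Fintype.card Ω - (t - 4) := by
      rw [← Nat.card_eq_fintype_card, ← hS, ← Nat.card_eq_fintype_card (α := Ω),
        ← Set.ncard_compl]
      exact Nat.card_coe_set_eq _
    omega
  · have hgG : (g : G) ≠ 1 := fun h => hg (Subtype.ext h)
    have := hfix g hgG
    have hsub : T ∪ (univ.filter fun y : SubMulAction.ofFixingSubgroup G S => g • y = y).map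
        (Function.Embedding.subtype _) ⊆ univ.filter fun y : Ω => (g : G) • y = y := by
      intro y hy
      rw [mem_filter]
      refine ⟨mem_univ _, ?_⟩
      rcases mem_union.1 hy with hy | hy
      · exact (mem_fixingSubgroup_iff G).1 g.2 y hy
      · obtain ⟨z, hz, rfl⟩ := mem_map.1 hy
        exact congrArg Subtype.val (mem_filter.1 hz).2
    have h := card_le_card hsub
    rw [card_union_of_disjoint, card_map, hT] at h
    · omega
    · rw [disjoint_left]
      intro y hy hy'
      obtain ⟨z, -, rfl⟩ := mem_map.1 hy'
      exact z.2 hy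

end Cfsg.Agent.Lib.Homog
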