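import Cfsg.Agent.Lib.Homog.FourTrans
import Mathlib.GroupTheory.Perm.Closure
import Mathlib.GroupTheory.Perm.Sign
import Mathlib.GroupTheory.OrderOfElement
import Mathlib.GroupTheory.SpecificGroups.Cyclic
import Mathlib.Tactic.Ring
import Mathlib.Tactic.Linarith
import Mathlib.Tactic.IntervalCases
import Mathlib.Tactic.NormNum.Prime

/-!
A faithful 4-transitive group in which only the identity fixes five or more points
has degree at most 12: the proof.
-/

set_option autoImplicit false

namespace Cfsg.Agent.Lib.Homog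

open MulAction Finset

variable {G Ω : Type*} [Group G] [MulAction G Ω] [Fintype Ω] [DecidableEq Ω] [Fintype G]
  [DecidableEq G]

theorem moved_stuff (H : Hyp G Ω) {g : G} (hg : g ∈ invols G) :
    (fixF (Ω := Ω) g).card ≤ 4 ∧ 2 ∣ (movF (Ω := Ω) g).card := by
  rw [mem_invols] at hg
  refine ⟨H.five g hg.1, ?_⟩
  have h := card_fix_modEq (toPermHom G Ω g) Nat.prime_two (by rw [← map_pow, pow_two, hg.2, map_one])
  have h' := card_fix_add_mov (Ω := Ω) g
  have : (univ.filter fun x => toPermHom G Ω g x = x) = fixF (Ω := Ω) g := rfl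
  rw [this, Nat.ModEq] at h
  omega

theorem even_case (H : Hyp G Ω) (hn : 13 ≤ Fintype.card Ω) (e : Fin 4 ↪ Ω)
    (hm : 2 ∣ Nat.card (stabilizer G e)) : False := by
  classical
  set m := Nat.card (stabilizer G e) with hmdef
  obtain ⟨z0, hz0⟩ := exists_prime_orderOf_dvd_card' 2 hm
  have hz0G : orderOf (z0 : G) = 2 := (Subgroup.orderOf_coe z0).trans hz0
  have hz : (z0 : G) ∈ patInvols 1 e := mem_patInvols.2 ⟨fun h => by simp [h] at hz0G,
    by rw [← sq, ← hz0G, pow_orderOf_eq_one], (pat_one_iff _ _).2 z0.2⟩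
  obtain ⟨z, hz, hzf⟩ : ∃ z ∈ patInvols (G := G) 1 e, ∀ i, e i ∈ fixF (Ω := Ω) z :=
    ⟨_, hz, fun i => by simpa [fixF] using (mem_patInvols.1 hz).2.2 i⟩
  have hzI : z ∈ invols G := mem_invols.2 ⟨(mem_patInvols.1 hz).1, (mem_patInvols.1 hz).2.1⟩
  have hz4 : (fixF (Ω := Ω) z).card = 4 := by
    refine le_antisymm (moved_stuff H hzI).1 ?_
    have := card_le_card (s := univ.map e) (t := fixF z) (fun y hy => by
      obtain ⟨i, -, rfl⟩ := mem_map.1 hy; exact hzf i)
    simpa using this
  obtain ⟨w, hw⟩ := (moved_stuff H hzI).2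
  have hn' := card_fix_add_mov (Ω := Ω) z
  have hdvd : m ∣ 2 * w := by
    have := H.stab_dvd e
    rwa [show Fintype.card Ω - 4 = 2 * w by omega] at this
  -- inequalities from counting
  set D := Fintype.card (Fin 4 ↪ Ω) with hD
  have hDpos : 0 < D := Fintype.card_pos_iff.2 ⟨e⟩
  set i := (patInvols (G := G) 1 e).card with hi
  set I4 := ((invols G).filter fun g => (fixF (Ω := Ω) g).card = 4) with hI4
  have hcount0 : i * D = 24 * I4.card := by
    rw [hi, hD, H.count, ← sum_filter_add_sum_filter_not (invols G)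
      (fun g => (fixF (Ω := Ω) g).card = 4)]
    rw [sum_eq_zero (s := (invols G).filter fun g => ¬ (fixF (Ω := Ω) g).card = 4) (fun g hg => by
      rw [mem_filter] at hg
      have := (moved_stuff H hg.1).1
      rw [patTuples_one, Nat.descFactorial_eq_zero_iff_lt]
      omega), add_zero, ← hI4, sum_congr rfl (fun g hg => show _ = 24 by
      rw [patTuples_one, (mem_filter.1 hg).2]; rfl), sum_const, smul_eq_mul, mul_comm]
  have hle : ∀ (π : Equiv.Perm (Fin 4)) (c : ℕ),
      (∀ g ∈ I4, (patTuples (Ω := Ω) π g).card = c) → c * (i * D) ≤ 24 * (m * D) := by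
    intro π c hc
    have h1 := H.count (G := G) π e
    have h2 : I4.card * c ≤ ∑ g ∈ invols G, (patTuples (Ω := Ω) π g).card := by
      rw [← smul_eq_mul, ← sum_const, ← sum_congr rfl hc]
      exact sum_le_sum_of_subset (filter_subset _ _)
    have h3 := Nat.mul_le_mul_right D (H.card_patInvols_le (G := G) π e)
    rw [hcount0]
    calc c * (24 * I4.card) = 24 * (I4.card * c) := by ring
      _ ≤ 24 * (m * D) := Nat.mul_le_mul_left _ (h2.trans (h1.symm.le.trans h3))
  have hmov : ∀ g ∈ I4, (movF (Ω := Ω) g).card = 2 * w := fun g hg => by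
    have := card_fix_add_mov (Ω := Ω) g
    have := (mem_filter.1 hg).2
    omega
  have hiw : i * w ≤ m := by
    have h := hle π₁ (2 * w * 12) (fun g hg => by
      rw [patTuples_swap (mem_invols.1 (mem_filter.1 hg).1).2, hmov g hg, (mem_filter.1 hg).2])
    rw [← mul_assoc, ← mul_assoc 24 m D] at h
    have := Nat.le_of_mul_le_mul_right h hDpos
    nlinarith
  have hiw2 : i * (w * (w - 1)) ≤ 6 * m := by
    have h := hle π₂ (2 * w * (2 * (w - 1))) (fun g hg => by
      rw [patTuples_swap_swap (mem_invols.1 (mem_filter.1 hg).1).2, hmov g hg,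
        show 2 * w - 2 = 2 * (w - 1) by omega])
    rw [← mul_assoc, ← mul_assoc 24 m D] at h
    have := Nat.le_of_mul_le_mul_right h hDpos
    nlinarith
  -- exactly one involution fixes the tuple
  have hm0 : 0 < m := Nat.card_pos
  have hmle : m ≤ 2 * w := Nat.le_of_dvd (by omega) hdvd
  have hipos : 0 < i := card_pos.2 ⟨z, hz⟩
  have hiodd : i % 2 = 1 := by
    haveI : Fintype (stabilizer G e) := Fintype.ofFinite _
    have h := card_fix_modEq (Equiv.inv (stabilizer G e)) Nat.prime_two
      (Equiv.ext fun q => by simp [pow_two, Equiv.Perm.mul_apply])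
    have hset : (univ.filter fun q : stabilizer G e => Equiv.inv (stabilizer G e) q = q).card
        = i + 1 := by
      rw [hi, ← card_insert_of_notMem (a := (1 : G))
        (fun h => (mem_patInvols.1 h).1 rfl)]
      refine card_bij (fun q _ => (q : G)) ?_ (fun a _ b _ h => Subtype.ext h) ?_
      · intro q hq
        simp only [Equiv.inv_apply, mem_filter, mem_univ, true_and] at hq
        rw [mem_insert, mem_patInvols, pat_one_iff]
        by_cases h1 : (q : G) = 1
        · exact Or.inl h1
        · refine Or.inr ⟨h1, ?_, q.2⟩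
          have hq' : ((q : G))⁻¹ = q := congrArg Subtype.val hq
          calc (q : G) * q = (q : G)⁻¹ * q := by rw [hq']
            _ = 1 := inv_mul_cancel _
      · intro g hg
        rw [mem_insert, mem_patInvols, pat_one_iff] at hg
        rcases hg with rfl | ⟨-, hgg, hge⟩
        · exact ⟨1, by simp, rfl⟩
        · refine ⟨⟨g, hge⟩, ?_, rfl⟩
          simp only [Equiv.inv_apply, mem_filter, mem_univ, true_and]
          exact Subtype.ext (inv_eq_of_mul_eq_one_right hgg)
    rw [hset, ← Nat.card_eq_fintype_card, ← hmdef, Nat.ModEq, Nat.mod_eq_zero_of_dvd hm] at h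
    omega
  have hi1 : i = 1 := by
    by_contra h
    have := Nat.mul_le_mul_right w (show 3 ≤ i by omega)
    omega
  rw [hi1, one_mul] at hiw hiw2
  obtain ⟨u, hu⟩ := card_eq_one.1 (hi.symm.trans hi1)
  have hzu : ∀ q ∈ patInvols (G := G) 1 e, q = z := fun q hq => by
    rw [hu, mem_singleton] at hq hz
    rw [hq, hz]
  -- a point outside the tuple and its stabiliser
  obtain ⟨x, hx⟩ : ∃ x : Ω, x ∉ univ.map e := by
    by_contra hall
    push Not at hall
    have := card_le_card (s := (univ : Finset Ω)) (fun y _ => hall y)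
    simp at this
    omega
  have hx' : ∀ j, e j ≠ x := fun j h => hx (mem_map.2 ⟨j, mem_univ _, h⟩)
  let P : Subgroup G := patGroup e
  let K : Subgroup P := stabilizer P x
  have hK : 24 * m ≤ 2 * w * Nat.card K := by
    have h1 : Nat.card (orbit P x) ≤ 2 * w := by
      have h2 : orbit P x ⊆ (Set.range e)ᶜ := by
        rintro y ⟨g, rfl⟩ ⟨j, hj⟩
        obtain ⟨π, hπ⟩ := g.2
        exact hx' (π⁻¹ j) (MulAction.injective (g : G) (by
          show (g : G) • e (π⁻¹ j) = (g : G) • x
          rw [hπ, ← Equiv.Perm.mul_apply, mul_inv_cancel, Equiv.Perm.one_apply]; exact hj))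
      refine (Nat.card_mono (Set.toFinite _) h2).trans (le_of_eq ?_)
      rw [Nat.card_coe_set_eq, Set.ncard_compl, Set.ncard_range_of_injective e.injective,
        Nat.card_fin, Nat.card_eq_fintype_card]
      omega
    have h3 : Nat.card (orbit P x) * Nat.card K = 24 * m := by
      rw [← H.card_patGroup e, Nat.card_coe_set_eq, ← MulAction.index_stabilizer]
      exact Subgroup.index_mul_card _
    rw [← h3]
    exact Nat.mul_le_mul_right _ h1
  let φ : K →* Equiv.Perm (Fin 4) := (patHom e).comp K.subtype
  have hφ : Function.Injective φ := by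
    rw [injective_iff_map_eq_one]
    intro g hg
    have h := patHom_spec e (g : P)
    rw [show patHom e (g : P) = 1 from hg, pat_one_iff] at h
    exact Subtype.ext (Subtype.ext (H.free e _ h x hx' g.2))
  have hK24 : Nat.card K ∣ 24 := by
    have := Subgroup.card_dvd_of_injective φ hφ
    rwa [Nat.card_perm, Nat.card_fin] at this
  have hK12 : 12 ≤ Nat.card K := by nlinarith
  have hK3 : 3 ∣ Nat.card K := by
    generalize Nat.card K = c at hK24 hK12
    have := Nat.le_of_dvd (by norm_num) hK24
    interval_cases c <;> omega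
  obtain ⟨k, hk⟩ := exists_prime_orderOf_dvd_card' 3 hK3
  have hk3 : φ k * (φ k * φ k) = 1 := by
    rw [← map_mul, ← map_mul, show k * (k * k) = k ^ 3 by rw [pow_succ, pow_two, mul_assoc], ← hk, pow_orderOf_eq_one, map_one]
  have hk1 : φ k ≠ 1 := fun h => by
    rw [hφ (h.trans (map_one φ).symm)] at hk
    simp at hk
  obtain ⟨hfix1, hcent⟩ := perm4_order3 _ hk3 hk1
  obtain ⟨d, hd⟩ := card_eq_one.1 hfix1
  have hdfix : φ k d = d := by
    have := mem_singleton_self d
    rw [← hd, mem_filter] at this
    exact this.2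
  set g : G := ((k : P) : G) with hgdef
  have hkpat : Pat (φ k) g e := patHom_spec e (k : P)
  have hgx : g • x = x := k.2
  have hgz : g * z * g⁻¹ = z := by
    have hm' : g * z * g⁻¹ ∈ patInvols (G := G) 1 e := by
      have := conj_mem_patInvols hz g
      rw [mem_patInvols, pat_one_iff] at this ⊢
      refine ⟨this.1, this.2.1, ?_⟩
      have h := this.2.2
      ext j
      have h' := DFunLike.congr_fun h ((φ k)⁻¹ j)
      simp only [Function.Embedding.smul_apply] at h' ⊢
      rw [hkpat, ← Equiv.Perm.mul_apply, mul_inv_cancel, Equiv.Perm.one_apply] at h'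
      exact h'
    exact hzu _ hm'
  have hgz' : ∀ y : Ω, g • z • y = z • g • y := fun y => by
    rw [← mul_smul, ← mul_smul, show g * z = z * g from mul_inv_eq_iff_eq_mul.1 hgz]
  have hzx : z • x ≠ x := fun h =>
    (mem_patInvols.1 hz).1 (H.free e z ((pat_one_iff _ _).1 (mem_patInvols.1 hz).2.2) x hx' h)
  have hzx' : ∀ j, e j ≠ z • x := fun j h => hx' j (MulAction.injective z (by
    show z • e j = z • x
    rw [← h]; simpa [fixF] using hzf j))
  have hg1 : g ≠ 1 := fun h => hk1 (by
    rw [show k = 1 from Subtype.ext (Subtype.ext h), map_one])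
  have hFle : (fixF (Ω := Ω) g).card ≤ 4 := H.five g hg1
  have hF3 : 3 ≤ (fixF (Ω := Ω) g).card := by
    have hsub : ({e d, x, z • x} : Finset Ω) ⊆ fixF g := by
      intro y hy
      simp only [mem_insert, mem_singleton] at hy
      simp only [fixF, mem_filter, mem_univ, true_and]
      rcases hy with rfl | rfl | rfl
      · rw [hkpat, hdfix]
      · exact hgx
      · rw [hgz', hgx]
    have := card_le_card hsub
    rw [card_eq_three.2 ⟨e d, x, z • x, hx' d, hzx' d, Ne.symm hzx, rfl⟩] at this
    exact this
  have hF : (fixF (Ω := Ω) g).card = 3 := by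
    let zp : Equiv.Perm {y : Ω // g • y = y} := (MulAction.toPermHom G Ω z).subtypePerm (fun y => by
      change g • z • y = z • y ↔ g • y = y
      rw [hgz']
      exact smul_left_cancel_iff z)
    have h := card_fix_modEq zp Nat.prime_two (Equiv.ext fun y => Subtype.ext (by
      show z • z • (y : Ω) = y
      exact invol_smul_smul (mem_patInvols.1 hz).2.1 _))
    have h1 : Fintype.card {y : Ω // g • y = y} = (fixF (Ω := Ω) g).card :=
      Fintype.card_subtype _
    have h2 : (univ.filter fun y => zp y = y).card = 1 := by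
      refine card_eq_one.2 ⟨⟨e d, by rw [hkpat, hdfix]⟩, ?_⟩
      ext ⟨y, hy⟩
      simp only [mem_filter, mem_univ, true_and, mem_singleton, Subtype.ext_iff]
      change z • y = y ↔ y = e d
      constructor
      · intro hzy
        by_cases hye : ∃ j, e j = y
        · obtain ⟨j, rfl⟩ := hye
          have hj : φ k j = j := e.injective ((hkpat j).symm.trans hy)
          have : j ∈ ({d} : Finset (Fin 4)) := hd ▸ mem_filter.2 ⟨mem_univ _, hj⟩
          rw [mem_singleton.1 this]
        · push Not at hye
          exact absurd (H.free e z ((pat_one_iff _ _).1 (mem_patInvols.1 hz).2.2) y hye hzy)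
            (mem_patInvols.1 hz).1
      · rintro rfl
        simpa [fixF] using hzf d
    rw [h1, h2, Nat.ModEq] at h
    omega
  have hn3 : Fintype.card Ω % 3 = 0 := by
    have hg3 : g ^ 3 = 1 := by
      rw [hgdef, ← SubgroupClass.coe_pow, ← SubgroupClass.coe_pow, ← hk, pow_orderOf_eq_one]
      rfl
    have h := card_fix_modEq (MulAction.toPermHom G Ω g) Nat.prime_three
      (by rw [← map_pow, hg3, map_one])
    have : (univ.filter fun y => MulAction.toPermHom G Ω g y = y) = fixF (Ω := Ω) g := rfl
    rw [this, hF, Nat.ModEq] at h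
    omega
  have hw13 : w ≤ 13 := by nlinarith [Nat.sub_add_cancel (show 1 ≤ w by omega)]
  obtain ⟨p, hp, hp5, hpm, hpsq⟩ : ∃ p, p.Prime ∧ 5 ≤ p ∧ p ∣ m ∧ m < p * p := by
    obtain ⟨c, hc⟩ := hdvd
    have hm2 : m = 2 * w := by
      rcases Nat.lt_or_ge c 2 with hc2 | hc2
      · interval_cases c <;> omega
      · have h2 : 2 * m ≤ 2 * w := by rw [hc]; nlinarith
        have : m = w := by omega
        subst this
        have : m ≤ 7 := by
          by_contra h
          have := Nat.mul_le_mul_left m (show 7 ≤ m - 1 by omega)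
          omega
        omega
    have hw5 : 5 ≤ w := by omega
    interval_cases w
    all_goals first
      | omega
      | exact ⟨7, by norm_num, by norm_num, by omega, by omega⟩
      | exact ⟨5, by norm_num, by norm_num, by omega, by omega⟩
      | exact ⟨13, by norm_num, by norm_num, by omega, by omega⟩
  haveI := Fact.mk hp
  obtain ⟨q, hq⟩ := exists_prime_orderOf_dvd_card' (G := stabilizer G e) p hpm
  have hqe : (q : G) • e = e := q.2
  have hqG : orderOf (q : G) = p := (Subgroup.orderOf_coe q).trans hq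
  -- conjugation by elements of `K` maps `q` into its cyclic group
  have hpow : ∀ c : K, ∃ a : ℕ,
      ((c : P) : G) * (q : G) * ((c : P) : G)⁻¹ = (q : G) ^ a := by
    intro c
    set g' : G := ((c : P) : G) with hg'
    have hq' : (g' * q * g'⁻¹) • e = e := by
      obtain ⟨π, hπ⟩ := (c : P).2
      rw [← pat_one_iff]
      have := (hπ.mul ((pat_one_iff _ _).2 hqe)).mul hπ.inv
      simpa using this
    let T := Subgroup.zpowers q
    let T' := Subgroup.zpowers (⟨_, hq'⟩ : stabilizer G e)
    suffices hT : T' ≤ T by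
      have := hT (Subgroup.mem_zpowers _)
      rw [mem_zpowers_iff_mem_range_orderOf, mem_image] at this
      obtain ⟨a, -, ha⟩ := this
      exact ⟨a, (congrArg Subtype.val ha).symm⟩
    have hord : orderOf (g' * q * g'⁻¹) = p := by
      rw [← hqG]
      exact orderOf_injective (MulAut.conj g').toMonoidHom (MulAut.conj g').injective q
    have hcT : Nat.card T = p := (Nat.card_zpowers _).trans hq
    have hcT' : Nat.card T' = p :=
      (Nat.card_zpowers _).trans ((Subgroup.orderOf_mk _ hq').trans hord)
    by_contra hne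
    have hdisj : Disjoint T T' := by
      rw [disjoint_iff]
      refine Subgroup.eq_bot_of_card_eq _ ?_
      rcases (Nat.dvd_prime hp).1
        ((Subgroup.card_dvd_of_le (inf_le_right (a := T) (b := T'))).trans (dvd_of_eq hcT')) with
        h | h
      · exact h
      · have : T ⊓ T' = T' := Subgroup.eq_of_le_of_card_ge inf_le_right (by rw [h, hcT'])
        exact absurd (inf_eq_right.1 this) hne
    have := Nat.card_le_card_of_injective _ (Subgroup.mul_injective_of_disjoint hdisj)
    rw [Nat.card_prod, hcT, hcT', ← hmdef] at this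
    omega
  -- hence `K` is abelian
  have hcomm : ∀ a b : K, a * b = b * a := by
    intro a b
    set A : G := ((a : P) : G) with hA
    set B : G := ((b : P) : G) with hB
    obtain ⟨i', hi'⟩ := hpow a
    obtain ⟨j', hj'⟩ := hpow b
    rw [← hA] at hi'
    rw [← hB] at hj'
    have e1 : (A * B) * q * (A * B)⁻¹ = (q : G) ^ (i' * j') := by
      rw [show A * B * (q : G) * (A * B)⁻¹ = A * (B * q * B⁻¹) * A⁻¹ by group, hj',
        ← conj_pow, hi', pow_mul]
    have e2 : (B * A) * q * (B * A)⁻¹ = (q : G) ^ (i' * j') := by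
      rw [show B * A * (q : G) * (B * A)⁻¹ = B * (A * q * A⁻¹) * B⁻¹ by group, hi',
        ← conj_pow, hj', mul_comm, pow_mul]
    set t : G := (B * A)⁻¹ * (A * B) with ht
    have htq : Commute t q := by
      rw [Commute, SemiconjBy, ← mul_inv_eq_iff_eq_mul]
      calc t * (q : G) * t⁻¹ = (B * A)⁻¹ * ((A * B) * q * (A * B)⁻¹) * (B * A) := by
            rw [ht]; group
        _ = (B * A)⁻¹ * ((B * A) * q * (B * A)⁻¹) * (B * A) := by rw [e1, e2]
        _ = q := by group
    have htx : t • x = x := by
      have hA' : A • x = x := a.2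
      have hB' : B • x = x := b.2
      rw [ht, mul_smul, inv_smul_eq_iff, mul_smul, mul_smul, hA', hB', hA']
    have hinj : Function.Injective fun j : Fin p => (q : G) ^ (j : ℕ) • x := by
      intro i₁ i₂ h
      have hz' := H.free e (((q : G) ^ (i₂ : ℕ))⁻¹ * (q : G) ^ (i₁ : ℕ))
        (Subgroup.mul_mem (stabilizer G e) (inv_mem (pow_mem q.2 _)) (pow_mem q.2 _)) x hx'
        (by rw [mul_smul, inv_smul_eq_iff]; exact h)
      have := pow_injOn_Iio_orderOf (x := (q : G)) (Set.mem_Iio.2 (hqG.symm ▸ i₁.2))
        (Set.mem_Iio.2 (hqG.symm ▸ i₂.2)) (inv_mul_eq_one.1 hz').symm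
      exact Fin.ext this
    have ht1 : t = 1 := H.eq_one_of_five (univ.map ⟨_, hinj⟩) (by simpa using hp5) (fun y hy => by
      obtain ⟨j, -, rfl⟩ := mem_map.1 hy
      show t • (q : G) ^ (j : ℕ) • x = (q : G) ^ (j : ℕ) • x
      rw [← mul_smul, (htq.pow_right _).eq, mul_smul, htx])
    exact Subtype.ext (Subtype.ext (inv_mul_eq_one.1 ht1).symm)
  have : Nat.card K ≤ 3 := by
    refine le_trans ?_ hcent
    rw [← Nat.card_eq_finsetCard]
    refine Nat.card_le_card_of_injective (fun c : K =>
      (⟨φ c, mem_filter.2 ⟨mem_univ _, by rw [← map_mul, ← map_mul, hcomm]⟩⟩ :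
        {τ // τ ∈ univ.filter fun τ => τ * φ k = φ k * τ})) ?_
    intro a b hab
    exact hφ (congrArg Subtype.val hab)
  omega

theorem odd_case (H : Hyp G Ω) (hn : 7 ≤ Fintype.card Ω) (e : Fin 4 ↪ Ω)
    (hm : ¬ 2 ∣ Nat.card (stabilizer G e)) :
    Fintype.card Ω = 11 ∨ (Fintype.card Ω = 7 ∧ Nat.card (stabilizer G e) = 3) := by
  classical
  set m := Nat.card (stabilizer G e) with hmdef
  have hQpow : ∀ q : G, q • e = e → q ^ m = 1 := fun q hq => by
    have h : (⟨q, hq⟩ : stabilizer G e) ^ m = 1 := pow_card_eq_one'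
    exact congrArg Subtype.val h
  have hQinv : ∀ q : G, q • e = e → q * q = 1 → q = 1 := fun q hq hqq => by
    have h := hQpow q hq
    obtain ⟨c, hc⟩ : ∃ c, m = 2 * c + 1 := ⟨m / 2, by omega⟩
    rw [hc, pow_succ, pow_mul, pow_two, hqq, one_pow, one_mul] at h
    exact h
  -- every involution fixes at most three points
  have hf3 : ∀ g ∈ invols G, (fixF (Ω := Ω) g).card ≤ 3 := by
    intro g hg
    by_contra h
    obtain ⟨s, hs, hs4⟩ := exists_subset_card_eq (show 4 ≤ (fixF (Ω := Ω) g).card by omega)
    let E : {y // y ∈ s} ≃ Fin 4 :=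
      Fintype.equivFinOfCardEq (by rw [Fintype.card_coe, hs4])
    let e' : Fin 4 ↪ Ω := E.symm.toEmbedding.trans (Function.Embedding.subtype _)
    have hge : Pat 1 g e' := fun j => by
      have := hs (E.symm j).2
      simp only [fixF, mem_filter, mem_univ, true_and] at this
      exact this
    rw [mem_invols] at hg
    have hm' : g ∈ patInvols (G := G) 1 e' := mem_patInvols.2 ⟨hg.1, hg.2, hge⟩
    have := card_pos.2 ⟨g, hm'⟩
    rw [H.card_patInvols_eq 1 e' e] at this
    obtain ⟨q, hq⟩ := card_pos.1 this
    rw [mem_patInvols, pat_one_iff] at hq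
    exact hq.1 (hQinv q hq.2.2 hq.2.1)
  -- a transposition lifts to an involution
  have hlift : ∀ π : Equiv.Perm (Fin 4), π ≠ 1 → π * π = 1 →
      (patInvols (G := G) π e).Nonempty := by
    intro π hπ1 hπ2
    obtain ⟨g, hg⟩ := H.exists_pat π e
    have hgg : (g * g) • e = e := by
      rw [← pat_one_iff]
      exact hπ2 ▸ hg.mul hg
    obtain ⟨c, hc⟩ : ∃ c, m = 2 * c + 1 := ⟨m / 2, by omega⟩
    have hpat : Pat π (g ^ m) e := by
      rw [hc, pow_succ, pow_mul, pow_two]
      have h1 : Pat (1 : Equiv.Perm (Fin 4)) ((g * g) ^ c) e :=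
        (pat_one_iff _ _).2 (pow_mem (show g * g ∈ stabilizer G e from hgg) c)
      simpa using h1.mul hg
    refine ⟨g ^ m, mem_patInvols.2 ⟨fun h => hπ1 ?_, ?_, hpat⟩⟩
    · exact hpat.unique (h ▸ fun j => by simp)
    · rw [← (Commute.refl g).mul_pow]
      exact hQpow _ hgg
  obtain ⟨s, hs⟩ := hlift π₁ (by decide) (by decide)
  obtain ⟨hs1, hss, hspat⟩ := mem_patInvols.1 hs
  have hsI : s ∈ invols G := mem_invols.2 ⟨hs1, hss⟩
  -- one class of involutions
  obtain ⟨t, ht⟩ := hlift π₂ (by decide) (by decide)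
  obtain ⟨ht1, htt, htpat⟩ := mem_patInvols.1 ht
  have hclass : ∀ g ∈ invols G, ∃ h : G, g = h * t * h⁻¹ := by
    intro g hg
    have hgg := (mem_invols.1 hg).2
    have hmov : 4 ≤ (movF (Ω := Ω) g).card := by
      have := card_fix_add_mov (Ω := Ω) g
      have := hf3 g hg
      omega
    have hpos : 0 < (patTuples (Ω := Ω) π₂ g).card := by
      rw [patTuples_swap_swap hgg]
      exact Nat.mul_pos (by omega) (by omega)
    obtain ⟨e', he'⟩ := card_pos.1 hpos
    have he' : Pat π₂ g e' := by simpa [patTuples] using he'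
    obtain ⟨h, hh⟩ := H.trans e' e
    have hm' := conj_mem_patInvols (mem_patInvols.2 ⟨(mem_invols.1 hg).1, hgg, he'⟩) h
    rw [hh] at hm'
    obtain ⟨-, hgg', hpat'⟩ := mem_patInvols.1 hm'
    set g' := h * g * h⁻¹ with hg'def
    -- `g'` and `t` lie in one coset
    set q := t * g' with hqdef
    have hq : q • e = e := by
      rw [← pat_one_iff]
      have := htpat.mul hpat'
      rwa [show π₂ * π₂ = 1 by decide] at this
    obtain ⟨c, hc⟩ : ∃ c, m + 1 = 2 * c := ⟨(m + 1) / 2, by omega⟩
    set r := q ^ c with hrdef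
    have hrr : r * r = q := by
      rw [hrdef, ← pow_add, ← two_mul, ← hc, pow_succ, hQpow q hq, one_mul]
    have htinv : t⁻¹ = t := inv_eq_of_mul_eq_one_right htt
    have hginv : g'⁻¹ = g' := inv_eq_of_mul_eq_one_right hgg'
    have htq : t * q * t⁻¹ = q⁻¹ := by
      rw [hqdef, mul_inv_rev, hginv, htinv, ← mul_assoc t t g', htt, one_mul]
    have htr : t * r * t⁻¹ = r⁻¹ := by
      rw [hrdef, ← conj_pow, htq, inv_pow]
    have hg' : g' = r⁻¹ * t * r := by
      calc g' = t * q := by rw [hqdef, ← mul_assoc, htt, one_mul]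
        _ = (t * r * t⁻¹) * t * r := by rw [← hrr]; group
        _ = r⁻¹ * t * r := by rw [htr]
    refine ⟨h⁻¹ * r⁻¹, ?_⟩
    calc g = h⁻¹ * g' * h := by rw [hg'def]; group
      _ = _ := by rw [hg']; group
  set f := (fixF (Ω := Ω) t).card with hfdef
  have hfixeq : ∀ g ∈ invols G, (fixF (Ω := Ω) g).card = f := by
    intro g hg
    obtain ⟨h, rfl⟩ := hclass g hg
    refine card_bij (fun y _ => h⁻¹ • y) ?_ (fun a _ b _ hab => MulAction.injective _ hab) ?_
    · intro y hy
      simp only [fixF, mem_filter, mem_univ, true_and] at hy ⊢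
      calc t • h⁻¹ • y = h⁻¹ • (h * t * h⁻¹) • y := by simp only [mul_smul, inv_smul_smul]
        _ = h⁻¹ • y := by rw [hy]
    · intro y hy
      refine ⟨h • y, ?_, inv_smul_smul h y⟩
      simp only [fixF, mem_filter, mem_univ, true_and] at hy ⊢
      simp only [mul_smul, inv_smul_smul, hy]
  have hf2 : 2 ≤ f := by
    rw [← hfixeq s hsI]
    have hsub : ({e 2, e 3} : Finset Ω) ⊆ fixF s := by
      intro y hy
      simp only [mem_insert, mem_singleton] at hy
      simp only [fixF, mem_filter, mem_univ, true_and]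
      rcases hy with rfl | rfl
      · exact hspat 2
      · exact hspat 3
    have := card_le_card hsub
    rwa [card_pair (e.injective.ne (by decide))] at this
  have hf3' : f ≤ 3 := hf3 t (mem_invols.2 ⟨ht1, htt⟩)
  obtain ⟨w, hw⟩ := (moved_stuff H hsI).2
  have hnw := card_fix_add_mov (Ω := Ω) s
  rw [hfixeq s hsI] at hnw
  have hmov : ∀ g ∈ invols G, (movF (Ω := Ω) g).card = 2 * w := fun g hg => by
    have := card_fix_add_mov (Ω := Ω) g
    rw [hfixeq g hg] at this
    omega
  set D := Fintype.card (Fin 4 ↪ Ω) with hD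
  have hDpos : 0 < D := Fintype.card_pos_iff.2 ⟨e⟩
  have h1 : (patInvols (G := G) π₁ e).card * D = (invols G).card * (2 * w * (f * f - f)) := by
    rw [hD, H.count, sum_congr rfl (fun g hg => by
      rw [patTuples_swap (mem_invols.1 hg).2, hmov g hg, hfixeq g hg]), sum_const, smul_eq_mul]
  have h2 : (patInvols (G := G) π₂ e).card * D = (invols G).card * (2 * w * (2 * w - 2)) := by
    rw [hD, H.count, sum_congr rfl (fun g hg => by
      rw [patTuples_swap_swap (mem_invols.1 hg).2, hmov g hg]), sum_const, smul_eq_mul]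
  set l1 := (patInvols (G := G) π₁ e).card with hl1
  set l2 := (patInvols (G := G) π₂ e).card with hl2
  have hkey : l1 * (2 * w - 2) = l2 * (f * f - f) := by
    refine Nat.eq_of_mul_eq_mul_right hDpos ?_
    calc l1 * (2 * w - 2) * D = (l1 * D) * (2 * w - 2) := by ring
      _ = (l2 * D) * (f * f - f) := by rw [h1, h2]; ring
      _ = l2 * (f * f - f) * D := by ring
  have hl2m : l2 ≤ m := H.card_patInvols_le π₂ e
  have hl1pos : 0 < l1 := card_pos.2 ⟨s, hs⟩
  interval_cases f
  · -- two fixed points
    have hdvd := H.stab_dvd (G := G) e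
    rw [← hmdef, show Fintype.card Ω - 4 = 2 * (w - 1) by omega] at hdvd
    have hmw : m ∣ w - 1 :=
      (Nat.Coprime.dvd_mul_left (Nat.coprime_comm.1 (Nat.prime_two.coprime_iff_not_dvd.2 hm))).1 hdvd
    have hmw' : m ≤ w - 1 := Nat.le_of_dvd (by omega) hmw
    have hl1' : l1 * (w - 1) = l2 := by
      rw [show 2 * w - 2 = 2 * (w - 1) by omega] at hkey
      nlinarith
    have hl1one : l1 = 1 := by
      by_contra h
      have := Nat.mul_le_mul_right (w - 1) (show 2 ≤ l1 by omega)
      omega
    have hmeq : m = w - 1 := by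
      rw [hl1one, one_mul] at hl1'
      omega
    -- the centraliser of the pointwise stabiliser
    let C : Subgroup G := patGroup e ⊓ Subgroup.centralizer (stabilizer G e : Set G)
    have hswap : ∀ i j : Fin 4, i ≠ j → ∃ c ∈ C, Pat (Equiv.swap i j) c e := by
      intro i j hij
      obtain ⟨σ, rfl, rfl⟩ : ∃ σ : Equiv.Perm (Fin 4), σ 0 = i ∧ σ 1 = j := by
        revert hij; revert i j; decide
      let e' : Fin 4 ↪ Ω := σ.toEmbedding.trans e
      have hcard : (patInvols (G := G) π₁ e').card = 1 := (H.card_patInvols_eq _ e' e).trans hl1one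
      obtain ⟨c, hc⟩ := card_eq_one.1 hcard
      have hcm : c ∈ patInvols (G := G) π₁ e' := hc ▸ mem_singleton_self c
      obtain ⟨hc1, hcc, hcp⟩ := mem_patInvols.1 hcm
      have hpat : Pat (Equiv.swap (σ 0) (σ 1)) c e := fun k => by
        have h := hcp (σ⁻¹ k)
        simp only [e', Function.Embedding.trans_apply, Equiv.coe_toEmbedding, π₁] at h
        rw [← Equiv.Perm.mul_apply σ, mul_inv_cancel, Equiv.Perm.one_apply] at h
        rw [h, ← σ.symm_trans_swap_trans 0 1]
        rfl
      refine ⟨c, ⟨⟨_, hpat⟩, ?_⟩, hpat⟩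
      refine Subgroup.mem_centralizer_iff.2 ?_
      intro q hq
      have hqe : q • e' = e' := by
        ext k
        exact DFunLike.congr_fun (show q • e = e from hq) (σ k)
      have h := conj_mem_patInvols hcm q
      rw [hqe, hc, mem_singleton] at h
      exact mul_inv_eq_iff_eq_mul.1 h
    let φ : C →* Equiv.Perm (Fin 4) :=
      (patHom e).comp (Subgroup.inclusion (inf_le_left : C ≤ patGroup e))
    have hsurj : φ.range = ⊤ := by
      refine top_unique ?_
      rw [← Equiv.Perm.closure_isSwap, Subgroup.closure_le]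
      rintro π ⟨i, j, hij, rfl⟩
      obtain ⟨c, hc, hpat⟩ := hswap i j hij
      exact ⟨⟨c, hc⟩, (patHom_spec e _).unique hpat⟩
    have h8 : 8 ∣ Nat.card C := by
      have := Subgroup.card_range_dvd φ
      rw [hsurj, Subgroup.card_top, Nat.card_perm, Nat.card_fin] at this
      exact (show 8 ∣ 24 by norm_num).trans this
    let X : SubMulAction C Ω :=
      { carrier := {x | ∀ i, e i ≠ x}
        smul_mem' := fun g x hx i hi => by
          obtain ⟨π, hπ⟩ := g.2.1
          exact hx (π⁻¹ i) (MulAction.injective (g : G) (by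
            show (g : G) • e (π⁻¹ i) = (g : G) • x
            rw [hπ, ← Equiv.Perm.mul_apply, mul_inv_cancel, Equiv.Perm.one_apply]
            exact hi)) }
    have hX : Nat.card X = Fintype.card Ω - 4 := by
      have h : ((X : Set Ω)) = (Set.range e)ᶜ := by
        ext x
        show (∀ i, e i ≠ x) ↔ _
        simp
      show Nat.card (X : Set Ω) = _
      rw [h, Nat.card_coe_set_eq, Set.ncard_compl, Set.ncard_range_of_injective e.injective,
        Nat.card_fin, Nat.card_eq_fintype_card]
    have hXdvd : 8 ∣ Nat.card X := by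
      refine dvd_card_of_coprime_stabilizer h8 fun x => ?_
      rw [show (8 : ℕ) = 2 ^ 3 by norm_num]
      refine Nat.Coprime.pow_left _ ((Nat.Prime.coprime_iff_not_dvd Nat.prime_two).2 fun h2 => ?_)
      obtain ⟨c, hc⟩ := exists_prime_orderOf_dvd_card' 2 h2
      have hcC : orderOf ((c : C) : G) = 2 :=
        (Subgroup.orderOf_coe (c : C)).trans ((Subgroup.orderOf_coe c).trans hc)
      have hcI : ((c : C) : G) ∈ invols G := mem_invols.2 ⟨fun h => by simp [h] at hcC,
        by rw [← sq, ← hcC, pow_orderOf_eq_one]⟩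
      have hcx : ((c : C) : G) • (x : Ω) = x := congrArg Subtype.val c.2
      have hinj : Function.Injective fun q : stabilizer G e => (q : G) • (x : Ω) := fun a b hab => by
        have := H.free e ((b : G)⁻¹ * a) (Subgroup.mul_mem _ (inv_mem b.2) a.2) x x.2
          (by rw [mul_smul, inv_smul_eq_iff]; exact hab)
        exact Subtype.ext (inv_mul_eq_one.1 this).symm
      have hle := card_le_card (s := univ.map ⟨_, hinj⟩) (t := fixF ((c : C) : G)) fun y hy => by
        obtain ⟨q, -, rfl⟩ := mem_map.1 hy
        simp only [fixF, mem_filter, mem_univ, true_and]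
        show ((c : C) : G) • (q : G) • (x : Ω) = (q : G) • (x : Ω)
        rw [← mul_smul, ← (Subgroup.mem_centralizer_iff.1 (c : C).2.2 q q.2), mul_smul, hcx]
      rw [hfixeq _ hcI, card_map, card_univ, ← Nat.card_eq_fintype_card, ← hmdef] at hle
      omega
    rw [hX, show Fintype.card Ω - 4 = 2 * m by omega] at hXdvd
    omega
  · -- three fixed points
    have hl1m : m ≤ l1 := by
      rw [hmdef, hl1, ← Nat.card_eq_finsetCard]
      refine Nat.card_le_card_of_injective (fun q : stabilizer G e =>
        (⟨(q : G) * s * (q : G)⁻¹, by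
          have := conj_mem_patInvols hs (q : G)
          rwa [show (q : G) • e = e from q.2] at this⟩ :
          {g // g ∈ patInvols (G := G) π₁ e})) ?_
      intro a b hab
      have hab' : (a : G) * s * (a : G)⁻¹ = (b : G) * s * (b : G)⁻¹ := congrArg Subtype.val hab
      set c : G := (b : G)⁻¹ * a with hcdef
      have hc : c • e = e := Subgroup.mul_mem (stabilizer G e) (inv_mem b.2) a.2
      have hcs : c * s = s * c := by
        calc c * s = (b : G)⁻¹ * ((a : G) * s * (a : G)⁻¹) * a := by rw [hcdef]; group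
          _ = s * c := by rw [hab', hcdef]; group
      obtain ⟨x, hxs, hx⟩ : ∃ x ∈ fixF (Ω := Ω) s, x ∉ ({e 2, e 3} : Finset Ω) :=
        exists_mem_notMem_of_card_lt_card (by
          rw [hfixeq s hsI]
          exact lt_of_le_of_lt card_le_two (by norm_num))
      simp only [fixF, mem_filter, mem_univ, true_and] at hxs
      have hfixall : ∀ y, s • y = y → y = e 2 ∨ y = e 3 ∨ y = x := by
        intro y hy
        have heq : ({e 2, e 3, x} : Finset Ω) = fixF s := by
          refine eq_of_subset_of_card_le ?_ ?_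
          · intro z hz
            simp only [mem_insert, mem_singleton] at hz
            simp only [fixF, mem_filter, mem_univ, true_and]
            rcases hz with rfl | rfl | rfl
            · exact hspat 2
            · exact hspat 3
            · exact hxs
          · rw [hfixeq s hsI]
            simp only [mem_insert, mem_singleton, not_or] at hx
            rw [card_eq_three.2 ⟨_, _, _, e.injective.ne (by decide), Ne.symm hx.1, Ne.symm hx.2,
              rfl⟩]
        have : y ∈ fixF (Ω := Ω) s := by simpa [fixF] using hy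
        rw [← heq] at this
        simpa using this
      simp only [mem_insert, mem_singleton, not_or] at hx
      have hxe : ∀ j, e j ≠ x := by
        intro j hj
        subst hj
        fin_cases j
        · exact e.injective.ne (show (1 : Fin 4) ≠ 0 by decide) ((hspat 0).symm.trans hxs)
        · exact e.injective.ne (show (0 : Fin 4) ≠ 1 by decide) ((hspat 1).symm.trans hxs)
        · exact hx.1 rfl
        · exact hx.2 rfl
      have hce : ∀ j, c • e j = e j := fun j => DFunLike.congr_fun hc j
      have hcx : c • x = x := by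
        rcases hfixall (c • x) (by rw [← mul_smul, ← hcs, mul_smul, hxs]) with h | h | h
        · exact absurd (MulAction.injective c (h.trans (hce 2).symm)) (Ne.symm (hxe 2))
        · exact absurd (MulAction.injective c (h.trans (hce 3).symm)) (Ne.symm (hxe 3))
        · exact h
      exact Subtype.ext (inv_mul_eq_one.1 (H.free e c hc x hxe hcx)).symm
    have : l1 * (2 * w - 2) ≤ l1 * 6 := by
      rw [hkey]
      exact Nat.mul_le_mul_right 6 (hl2m.trans hl1m)
    have hw4 := Nat.le_of_mul_le_mul_left this hl1pos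
    have hl1eq : l1 = m := le_antisymm (H.card_patInvols_le π₁ e) hl1m
    have hdvd := H.stab_dvd (G := G) e
    rw [← hmdef] at hdvd
    obtain rfl | rfl | rfl : w = 2 ∨ w = 3 ∨ w = 4 := by omega
    · refine Or.inr ⟨by omega, ?_⟩
      rw [show Fintype.card Ω - 4 = 3 by omega] at hdvd
      have := Nat.le_of_dvd (by norm_num) hdvd
      omega
    · exfalso
      rw [show Fintype.card Ω - 4 = 5 by omega] at hdvd
      rcases (Nat.dvd_prime (by norm_num)).1 hdvd with h | h <;> omega
    · exact Or.inl (by omega)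

omit [Fintype G] [DecidableEq G] in
/-- A faithful 4-transitive group in which only the identity fixes five or more points has
degree at most 12. -/
theorem card_le_twelve_of_four_pretransitive [Finite G]
    (h4 : IsMultiplyPretransitive G Ω 4)
    (h5 : ∀ g : G, g ≠ 1 → (univ.filter fun y : Ω => g • y = y).card ≤ 4) :
    Fintype.card Ω ≤ 12 := by
  classical
  by_contra hn
  haveI := Fintype.ofFinite G
  have H : Hyp G Ω := ⟨fun a b => h4.exists_smul_eq a b, h5⟩
  obtain ⟨e⟩ : Nonempty (Fin 4 ↪ Ω) :=
    Function.Embedding.nonempty_of_card_le (by rw [Fintype.card_fin]; omega)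
  by_cases hm : 2 ∣ Nat.card (stabilizer G e)
  · exact even_case H (by omega) e hm
  · rcases odd_case H (by omega) e hm with h | ⟨h, -⟩ <;> omega

end Cfsg.Agent.Lib.Homog
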