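import Cfsg.Agent.Lib.Homog.Induced
import Cfsg.Agent.Lib.Solvable.CoprimeGeneration

/-!
No group of degree at least `2k` induces exactly the alternating group on all `k`-sets, `k ≥ 5`.
-/

set_option autoImplicit false
set_option linter.unusedSectionVars false

namespace Cfsg.Agent.Lib.Homog

open MulAction Finset
open scoped Pointwise

theorem sign_of_mul_self {β : Type*} [Fintype β] [DecidableEq β] {σ : Equiv.Perm β} (hσ : σ * σ = 1)
    {j : ℕ} (hj : j % 2 = 1) (hs : σ.support.card = 2 * j) : Equiv.Perm.sign σ = -1 := by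
  have hne : σ ≠ 1 := fun h => by rw [h, Equiv.Perm.support_one, card_empty] at hs; omega
  have ho : orderOf σ = 2 := orderOf_eq_prime (by rw [pow_two, hσ]) hne
  obtain ⟨m, hm⟩ := Equiv.Perm.cycleType_prime_order (σ := σ) (by rw [ho]; exact Nat.prime_two)
  have hsum := σ.sum_cycleType
  rw [hm, hs, Multiset.sum_replicate, smul_eq_mul, ho] at hsum
  rw [Equiv.Perm.sign_of_cycleType, hm, Multiset.card_replicate, Multiset.sum_replicate,
    smul_eq_mul, ho, show (m + 1) * 2 + (m + 1) = 3 * j by omega]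
  exact (Nat.odd_iff.2 (by omega)).neg_one_pow

variable {α : Type*} [Fintype α] [DecidableEq α] (G : Subgroup (Equiv.Perm α))

/-- All induced permutations of `k` labels are even. -/
def EvenAt (k : ℕ) : Prop :=
  ∀ (e : Fin k ↪ α), ∀ σ ∈ induced G e, Equiv.Perm.sign σ = 1

theorem not_invariant {k : ℕ} (hA : EvenAt G k) {t : G} (ht : t * t = 1) (D : Finset α)
    (hD : D.card = k) (hinv : ∀ y ∈ D, t • y ∈ D) {j : ℕ} (hj : j % 2 = 1)
    (hmov : (D.filter fun y => t • y ≠ y).card = 2 * j) : False := by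
  classical
  let q := D.equivFinOfCardEq hD
  let e : Fin k ↪ α := q.symm.toEmbedding.trans (Function.Embedding.subtype _)
  have he : ∀ i, e i ∈ D := fun i => (q.symm i).2
  let f : Fin k → Fin k := fun i => q ⟨t • e i, hinv _ (he i)⟩
  have hf : ∀ i, e (f i) = t • e i := fun i => by simp [f, e]
  have hinvol : Function.Involutive f := fun i => e.injective (by
    rw [hf, hf, ← mul_smul, ht, one_smul])
  let σ : Equiv.Perm (Fin k) := hinvol.toPerm
  have hσ : ∀ i, e (σ i) = t • e i := hf
  have h2 : σ * σ = 1 := Equiv.ext fun i => hinvol i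
  have hsupp : σ.support.map e = D.filter fun y => t • y ≠ y := by
    ext y
    simp only [mem_map, Equiv.Perm.mem_support, mem_filter]
    constructor
    · rintro ⟨i, hi, rfl⟩
      exact ⟨he i, fun h => hi (e.injective ((hσ i).trans h))⟩
    · rintro ⟨hy, hyt⟩
      refine ⟨q ⟨y, hy⟩, fun h => hyt ?_, by simp [e]⟩
      have h' := congrArg e h
      rw [hσ] at h'
      simpa [e] using h'
  have h1 := hA e σ ⟨t, fun i => (hσ i).symm⟩
  rw [sign_of_mul_self h2 hj (by rw [← card_map e, hsupp, hmov])] at h1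
  exact absurd h1 (by decide)

theorem fix_small {k : ℕ} (hk : 2 ≤ k) (hA : EvenAt G k) {t : G} (ht : t * t = 1) (ht1 : t ≠ 1) :
    (univ.filter fun y : α => t • y = y).card + 3 ≤ k := by
  classical
  by_contra hlt
  obtain ⟨U, hUF, hU⟩ := exists_subset_card_eq
    (show k - 2 ≤ (univ.filter fun y : α => t • y = y).card by omega)
  obtain ⟨a, ha⟩ : ∃ a : α, t • a ≠ a := by
    by_contra hall
    push Not at hall
    exact ht1 (Subtype.ext (Equiv.ext hall))
  have hfixU : ∀ y ∈ U, t • y = y := fun y hy => (mem_filter.1 (hUF hy)).2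
  have hta : t • t • a = a := by rw [← mul_smul, ht, one_smul]
  have haU : a ∉ U := fun h => ha (hfixU a h)
  have htaU : t • a ∉ U := fun h => ha (MulAction.injective t (hfixU _ h))
  refine not_invariant G hA ht (insert a (insert (t • a) U)) ?_ ?_ (j := 1) rfl ?_
  · rw [card_insert_of_notMem (by simp [Ne.symm ha, haU]), card_insert_of_notMem htaU, hU]
    omega
  · intro y hy
    simp only [mem_insert] at hy ⊢
    rcases hy with rfl | rfl | hy
    · exact Or.inr (Or.inl rfl)
    · exact Or.inl hta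
    · exact Or.inr (Or.inr (by rwa [hfixU y hy]))
  · have : (insert a (insert (t • a) U)).filter (fun y => t • y ≠ y) = {a, t • a} := by
      ext y
      simp only [mem_filter, mem_insert, mem_singleton]
      constructor
      · rintro ⟨rfl | rfl | hy, h⟩
        · exact Or.inl rfl
        · exact Or.inr rfl
        · exact absurd (hfixU y hy) h
      · rintro (rfl | rfl)
        · exact ⟨Or.inl rfl, ha⟩
        · exact ⟨Or.inr (Or.inl rfl), fun h => ha (MulAction.injective t h)⟩
    rw [this, card_pair (Ne.symm ha)]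

theorem exists_two_elem {M : Type*} [Group M] [Finite M] (g : M) :
    ∃ (m e : ℕ), m % 2 = 1 ∧ (g ^ m) ^ 2 ^ e = 1 := by
  refine ⟨ordCompl[2] (orderOf g), (orderOf g).factorization 2, ?_, ?_⟩
  · have := Nat.not_dvd_ordCompl Nat.prime_two (orderOf_pos g).ne'
    omega
  · rw [← pow_mul, mul_comm, Nat.ordProj_mul_ordCompl_eq_self, pow_orderOf_eq_one]

/-- There is an involution fixing exactly `k - 3` points. -/
theorem exists_invol_fix {k : ℕ} (hk : 5 ≤ k) (hn : k - 1 ≤ Fintype.card α) (hA : EvenAt G k)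
    (htr : IsMultiplyPretransitive G α (k - 1)) :
    ∃ t : G, t * t = 1 ∧ t ≠ 1 ∧ (univ.filter fun y : α => t • y = y).card + 3 = k := by
  classical
  obtain ⟨e⟩ : Nonempty (Fin (k - 1) ↪ α) :=
    Function.Embedding.nonempty_of_card_le (by rwa [Fintype.card_fin])
  let i₀ : Fin (k - 1) := ⟨0, by omega⟩
  let i₁ : Fin (k - 1) := ⟨1, by omega⟩
  have h01 : i₀ ≠ i₁ := by simp [i₀, i₁, Fin.ext_iff]
  haveI := htr
  obtain ⟨g, hg⟩ := MulAction.exists_smul_eq G e ((Equiv.swap i₀ i₁).toEmbedding.trans e)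
  have hg' : ∀ i, g • e i = e (Equiv.swap i₀ i₁ i) := fun i => DFunLike.congr_fun hg i
  obtain ⟨m, ee, hm, hpow⟩ := exists_two_elem g
  have hpat : ∀ (r : ℕ) (i), (g ^ r) • e i = e (((Equiv.swap i₀ i₁) ^ r : Equiv.Perm _) i) := by
    intro r
    induction r with
    | zero => simp
    | succ r ih => intro i; rw [pow_succ, mul_smul, hg', ih, pow_succ]; rfl
  have hodd : ∀ r, r % 2 = 1 → (Equiv.swap i₀ i₁) ^ r = Equiv.swap i₀ i₁ := fun r hr => by
    obtain ⟨q, rfl⟩ : ∃ q, r = 2 * q + 1 := ⟨r / 2, by omega⟩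
    rw [pow_add, pow_mul, pow_two, Equiv.swap_mul_self, one_pow, one_mul, pow_one]
  have hev : ∀ r, r % 2 = 0 → (Equiv.swap i₀ i₁) ^ r = 1 := fun r hr => by
    obtain ⟨q, rfl⟩ : ∃ q, r = 2 * q := ⟨r / 2, by omega⟩
    rw [pow_mul, pow_two, Equiv.swap_mul_self, one_pow]
  set u := g ^ m with hu
  have hu0 : u • e i₀ = e i₁ := by
    rw [hu, hpat, hodd m hm, Equiv.swap_apply_left]
  have hfix : ∀ i, i ≠ i₀ → i ≠ i₁ → u • e i = e i := fun i h0 h1 => by
    rw [hu, hpat, hodd m hm, Equiv.swap_apply_of_ne_of_ne h0 h1]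
  have hsub : ((univ.erase i₀).erase i₁).map e ⊆ univ.filter fun y : α => u • y = y := by
    intro y hy
    obtain ⟨i, hi, rfl⟩ := mem_map.1 hy
    simp only [mem_erase, ne_eq, mem_univ, and_true] at hi
    exact mem_filter.2 ⟨mem_univ _, hfix i hi.2 hi.1⟩
  have hne : u ≠ 1 := fun h => h01 (e.injective (by rw [← hu0, h, one_smul]))
  by_cases h2 : u * u = 1
  · refine ⟨u, h2, hne, ?_⟩
    have h1 := card_le_card hsub
    rw [card_map, card_erase_of_mem (by simp [h01.symm]), card_erase_of_mem (mem_univ _), card_univ,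
      Fintype.card_fin] at h1
    have := fix_small G (by omega) hA h2 hne
    omega
  exfalso
  obtain ⟨d, hd⟩ : ∃ d, orderOf u = 2 ^ d := ⟨_, ((Nat.dvd_prime_pow Nat.prime_two).1
    (orderOf_dvd_of_pow_eq_one hpow)).choose_spec.2⟩
  have hd2 : 2 ≤ d := by
    by_contra hd2
    refine h2 (orderOf_dvd_iff_pow_eq_one.1 (show orderOf u ∣ 2 by
      rw [hd]; exact Nat.pow_dvd_pow 2 (show d ≤ 1 by omega)) ▸ (pow_two u).symm)
  set w := u ^ 2 ^ (d - 1) with hw
  have hw1 : w ≠ 1 := fun h => by
    have := Nat.le_of_dvd (by positivity) (orderOf_dvd_of_pow_eq_one h)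
    rw [hd] at this
    have := (Nat.pow_le_pow_iff_right (by norm_num : 1 < 2)).1 this
    omega
  have hw2 : w * w = 1 := by
    rw [hw, ← pow_add, show 2 ^ (d - 1) + 2 ^ (d - 1) = 2 ^ d by
      conv_rhs => rw [show d = d - 1 + 1 by omega, pow_succ]
      ring, ← hd, pow_orderOf_eq_one]
  have hall : univ.map e ⊆ univ.filter fun y : α => w • y = y := by
    intro y hy
    obtain ⟨i, -, rfl⟩ := mem_map.1 hy
    refine mem_filter.2 ⟨mem_univ _, ?_⟩
    rw [hw, hu, ← pow_mul, hpat, hev, Equiv.Perm.one_apply]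
    rw [Nat.mul_mod, Nat.pow_mod, Nat.mod_self, zero_pow (by omega)]
    simp
  have h1 := card_le_card hall
  rw [card_map, card_univ, Fintype.card_fin] at h1
  have := fix_small G (by omega) hA hw2 hw1
  omega

theorem not_evenAt_six {k : ℕ} (hk : 6 ≤ k) (hn : 2 * k ≤ Fintype.card α) (hA : EvenAt G k)
    (htr : IsMultiplyPretransitive G α (k - 1)) : False := by
  classical
  obtain ⟨t, ht, ht1, hf⟩ := exists_invol_fix G (by omega) (by omega) hA htr
  set M := univ.filter fun y : α => t • y ≠ y with hM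
  have hMc : 7 ≤ M.card := by
    have := Finset.card_filter_add_card_filter_not (s := (univ : Finset α)) (fun y => t • y = y)
    rw [card_univ] at this
    simp only [hM, ne_eq]
    omega
  have hmem : ∀ y, y ∈ M ↔ t • y ≠ y := fun y => by simp [hM]
  have htt : ∀ y : α, t • t • y = y := fun y => by rw [← mul_smul, ht, one_smul]
  obtain ⟨a, ha⟩ : ∃ a, a ∈ M := Finset.card_pos.1 (by omega) |>.imp fun _ h => h
  obtain ⟨b, hb, hb'⟩ := exists_mem_notMem_of_card_lt_card
    (show ({a, t • a} : Finset α).card < M.card from (card_le_two).trans_lt (by omega))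
  obtain ⟨c, hc, hc'⟩ := exists_mem_notMem_of_card_lt_card
    (show ({a, t • a, b, t • b} : Finset α).card < M.card from (card_le_four).trans_lt (by omega))
  simp only [mem_insert, mem_singleton, not_or] at hb' hc'
  rw [hmem] at ha hb hc
  let T : Finset α := {a, t • a, b, t • b, c, t • c}
  have hT : T.card = 6 := by
    simp only [T]
    have e1 : t • a ≠ b := Ne.symm hb'.2
    have e2 : t • a ≠ t • b := fun h => hb'.1 (MulAction.injective t h).symm
    have e3 : a ≠ t • b := fun h => hb'.2 (by rw [h, htt])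
    have e4 : a ≠ t • c := fun h => hc'.2.1 (by rw [h, htt])
    have e5 : t • a ≠ t • c := fun h => hc'.1 (MulAction.injective t h).symm
    have e6 : b ≠ t • c := fun h => hc'.2.2.2 (by rw [h, htt])
    have e7 : t • b ≠ t • c := fun h => hc'.2.2.1 (MulAction.injective t h).symm
    rw [card_insert_of_notMem, card_insert_of_notMem, card_insert_of_notMem, card_insert_of_notMem,
      card_insert_of_notMem, card_singleton] <;>
      simp only [mem_insert, mem_singleton, not_or] <;>
      grind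
  obtain ⟨U, hUF, hU⟩ := exists_subset_card_eq
    (show k - 6 ≤ (univ.filter fun y : α => t • y = y).card by omega)
  have hfixU : ∀ y ∈ U, t • y = y := fun y hy => (mem_filter.1 (hUF hy)).2
  have hTm : ∀ y ∈ T, t • y ≠ y ∧ t • y ∈ T := by
    intro y hy
    simp only [T, mem_insert, mem_singleton] at hy ⊢
    have htne : ∀ z : α, t • z ≠ z → t • t • z ≠ t • z := fun z hz h => hz (MulAction.injective t h)
    rcases hy with rfl | rfl | rfl | rfl | rfl | rfl
    · exact ⟨ha, by simp⟩
    · exact ⟨htne a ha, by simp [htt]⟩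
    · exact ⟨hb, by simp⟩
    · exact ⟨htne b hb, by simp [htt]⟩
    · exact ⟨hc, by simp⟩
    · exact ⟨htne c hc, by simp [htt]⟩
  refine not_invariant G hA ht (T ∪ U) ?_ ?_ (j := 3) rfl ?_
  · rw [card_union_of_disjoint, hT, hU]
    · omega
    · rw [disjoint_left]
      exact fun y hy hy' => (hTm y hy).1 (hfixU y hy')
  · intro y hy
    rcases mem_union.1 hy with hy | hy
    · exact mem_union_left _ (hTm y hy).2
    · exact mem_union_right _ (by rwa [hfixU y hy])
  · rw [filter_union, filter_eq_self.2 (fun y hy => (hTm y hy).1),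
      filter_eq_empty_iff.2 (fun y hy => not_not.2 (hfixU y hy)), union_empty, hT]

/-- An odd normal subgroup of index four with few fixed points of involutions fixes everything. -/
theorem orbit_trivial {M : Type*} [Group M] [Finite M] [MulAction M α] (K : Subgroup M) [K.Normal]
    (hK : ¬ 2 ∣ Nat.card K) (hidx : K.index = 4) (hexp : ∀ x : M, x * x ∈ K) (y : α)
    (hinv : ∀ x : M, x • y ∈ orbit K y)
    (hfix : ∀ x : M, x * x = 1 → x ≠ 1 → (univ.filter fun z : α => x • z = z).card ≤ 2) :
    ∀ u ∈ K, u • y = y := by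
  classical
  have hLc : ∀ x : α, Nat.card (orbit K x) * Nat.card (stabilizer K x) = Nat.card K := fun x => by
    rw [Nat.card_coe_set_eq, ← MulAction.index_stabilizer, Subgroup.index_mul_card]
  set L := Nat.card (orbit K y) with hL
  have hLodd : ¬ 2 ∣ L := fun h => hK (h.trans ⟨_, (hLc y).symm⟩)
  suffices hL1 : L = 1 by
    intro u hu
    haveI := (Nat.card_eq_one_iff_unique.1 hL1).1
    exact congrArg Subtype.val (Subsingleton.elim
      (⟨u • y, ⟨⟨u, hu⟩, rfl⟩⟩ : orbit K y) ⟨y, mem_orbit_self y⟩)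
  have hOinv : ∀ x : M, ∀ z ∈ orbit K y, x • z ∈ orbit K y := by
    intro x z hz
    obtain ⟨⟨k, hk⟩, rfl⟩ := hz
    obtain ⟨⟨k', hk'⟩, h'⟩ := hinv x
    refine ⟨⟨x * k * x⁻¹ * k', K.mul_mem (Subgroup.Normal.conj_mem inferInstance k hk x) hk'⟩, ?_⟩
    show (x * k * x⁻¹ * k') • y = x • k • y
    rw [mul_smul (x * k * x⁻¹), show k' • y = x • y from h', mul_smul, mul_smul, inv_smul_smul]
  by_contra hL1
  obtain ⟨q, hq, hqL⟩ := Nat.exists_prime_and_dvd hL1
  haveI := Fact.mk hq
  haveI := Fact.mk Nat.prime_two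
  obtain ⟨P⟩ : Nonempty (Sylow q K) := inferInstance
  set Q : Subgroup M := (P : Subgroup K).map K.subtype with hQ
  set N : Subgroup M := Subgroup.normalizer (Q : Set M) with hN
  have hsup : N ⊔ K = ⊤ := by
    rw [hN, hQ]; exact P.normalizer_sup_eq_top
  have h4 : 4 ∣ Nat.card N := by
    have h := Subgroup.relIndex_sup_right (H := N) (K := K)
    rw [hsup, Subgroup.relIndex_top_right, hidx] at h
    rw [h]
    exact Subgroup.relIndex_dvd_card K N
  obtain ⟨T₀, hT₀⟩ := Sylow.exists_subgroup_card_pow_prime 2 (n := 2) (show 2 ^ 2 ∣ Nat.card N from h4)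
  set T : Subgroup M := T₀.map N.subtype with hT
  have hTc : Nat.card T = 4 := by
    rw [hT, Subgroup.card_map_of_injective (Subgroup.subtype_injective _), hT₀]; rfl
  have hTp : IsPGroup 2 T := IsPGroup.of_card (n := 2) hTc
  have hTN : T ≤ N := Subgroup.map_subtype_le _
  have hTK : ∀ x ∈ T, x ∈ K → x = 1 := by
    intro x hx hxK
    by_contra h
    obtain ⟨i, hi⟩ := hTp ⟨x, hx⟩
    have h1 : orderOf x ∣ 2 ^ i := orderOf_dvd_of_pow_eq_one (congrArg Subtype.val hi)
    obtain ⟨l, -, hl⟩ := (Nat.dvd_prime_pow Nat.prime_two).1 h1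
    rcases Nat.eq_zero_or_pos l with rfl | hl0
    · exact h (orderOf_eq_one_iff.1 (by rw [hl, pow_zero]))
    · exact hK (((dvd_pow_self 2 hl0.ne').trans (dvd_of_eq hl.symm)).trans
        ((Subgroup.orderOf_mk x hxK).symm ▸ orderOf_dvd_natCard (⟨x, hxK⟩ : K)))
  have hT2 : ∀ x ∈ T, x * x = 1 := fun x hx => hTK _ (T.mul_mem hx hx) (hexp x)
  have hTcomm : ∀ x ∈ T, ∀ z ∈ T, x * z = z * x := fun x hx z hz => by
    have hi : ∀ w ∈ T, w⁻¹ = w := fun w hw => inv_eq_of_mul_eq_one_right (hT2 w hw)
    rw [← hi _ (T.mul_mem hx hz), mul_inv_rev, hi _ hx, hi _ hz]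
  -- a common fixed point
  let X : SubMulAction T α :=
    { carrier := orbit K y, smul_mem' := fun x z hz => hOinv x z hz }
  obtain ⟨x₀, hx₀⟩ : (fixedPoints T X).Nonempty := by
    refine hTp.nonempty_fixed_point_of_prime_not_dvd_card X ?_
    exact hLodd
  have hx₀' : ∀ x ∈ T, x • (x₀ : α) = x₀ := fun x hx => congrArg Subtype.val (hx₀ ⟨x, hx⟩)
  -- unique in the orbit
  have huniq : ∀ x ∈ T, x ≠ 1 → ∀ z ∈ orbit K y, x • z = z → z = x₀ := by
    intro x hx hx1 z hz hxz
    let O : Finset α := univ.filter fun w => w ∈ orbit K y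
    have hO : O.card = L := by
      rw [hL, Nat.card_eq_fintype_card]
      exact (Fintype.card_of_subtype O (fun w => by simp [O])).symm
    have hsub : O.filter (fun w => x • w = w) ⊆ univ.filter fun w : α => x • w = w :=
      fun w hw => mem_filter.2 ⟨mem_univ _, (mem_filter.1 hw).2⟩
    have hle : (O.filter fun w => x • w = w).card ≤ 2 :=
      (card_le_card hsub).trans (hfix x (hT2 x hx) hx1)
    -- parity
    have hev : Even (O.filter fun w => ¬ x • w = w).card := by
      have hmemO : ∀ w, w ∈ O ↔ w ∈ orbit K y := fun w => by simp [O]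
      let π : Equiv.Perm α := MulAction.toPerm x
      let π' : Equiv.Perm {w // w ∈ O} := π.subtypePerm fun w => by
        rw [hmemO, hmemO]
        refine ⟨fun h => ?_, fun h => hOinv x w h⟩
        have := hOinv x _ h
        rwa [show x • π w = w by show x • x • w = w; rw [← mul_smul, hT2 x hx, one_smul]] at this
      have h2 : π' ^ 2 = 1 := Equiv.ext fun w => Subtype.ext (by
        show x • x • (w : α) = w
        rw [← mul_smul, hT2 x hx, one_smul])
      have h3 := Equiv.Perm.two_dvd_card_support h2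
      have h4' : π'.support.map (Function.Embedding.subtype _) = O.filter fun w => ¬ x • w = w := by
        ext w
        simp only [mem_map, Equiv.Perm.mem_support, mem_filter]
        constructor
        · rintro ⟨v, hv, rfl⟩
          exact ⟨v.2, fun h => hv (Subtype.ext h)⟩
        · rintro ⟨hw, hxw⟩
          exact ⟨⟨w, hw⟩, fun h => hxw (congrArg Subtype.val h), rfl⟩
      rw [← h4', card_map]
      exact even_iff_two_dvd.2 h3
    have hodd : O.card % 2 = 1 := by rw [hO]; omega
    have hsplit := Finset.card_filter_add_card_filter_not (s := O) (fun w => x • w = w)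
    obtain ⟨r, hr⟩ := hev
    obtain ⟨w, hw⟩ := card_eq_one.1 (show (O.filter fun w => x • w = w).card = 1 by omega)
    have h1 : z ∈ O.filter fun w => x • w = w := mem_filter.2 ⟨mem_filter.2 ⟨mem_univ _, hz⟩, hxz⟩
    have h2 : (x₀ : α) ∈ O.filter fun w => x • w = w :=
      mem_filter.2 ⟨mem_filter.2 ⟨mem_univ _, x₀.2⟩, hx₀' x hx⟩
    rw [hw, mem_singleton] at h1 h2
    rw [h1, h2]
  obtain ⟨a, ha, ha1⟩ : ∃ a ∈ T, a ≠ 1 :=
    (Subgroup.one_lt_card_iff_ne_bot T).1 (by omega) |> fun h =>
      (T.bot_or_exists_ne_one.resolve_left h)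
  obtain ⟨b, hb, hb1, hba⟩ : ∃ b ∈ T, b ≠ 1 ∧ b ≠ a := by
    by_contra hall
    push Not at hall
    have : (T : Set M) ⊆ {1, a} := fun x hx => by
      by_cases h : x = 1
      · exact Or.inl h
      · exact Or.inr (hall x hx h)
    have := Set.ncard_le_ncard this
    rw [← Nat.card_coe_set_eq, Set.ncard_pair ha1.symm] at this
    exact absurd (hTc ▸ this) (by norm_num)
  have hQK : Q ≤ K := Subgroup.map_subtype_le _
  have hQle : Q ≤ stabilizer M (x₀ : α) := by
    have hlines : ∀ x ∈ T, x ≠ 1 → Q ⊓ Subgroup.centralizer {x} ≤ stabilizer M (x₀ : α) := by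
      intro x hx hx1 u hu
      have hc : x * u = u * x := Subgroup.mem_centralizer_singleton_iff.1 hu.2 |>.symm
      refine huniq x hx hx1 _ (hOinv u _ x₀.2) ?_
      rw [← mul_smul, hc, mul_smul, hx₀' x hx]
    refine CfsgLib.Solvable.le_of_lines_centralizer_le_solvable (r := 2) hTp ha hb
      (hTcomm a ha b hb) (Nat.card Q) Q rfl ?_ hTN ?_
      (by rw [pow_two, hT2 a ha]; exact one_mem _) (by rw [pow_two, hT2 b hb]; exact one_mem _)
      _ (fun i => ?_) (hlines b hb hb1)
    · haveI : Group.IsNilpotent Q := (P.2.map K.subtype).isNilpotent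
      infer_instance
    · exact fun h => hK (h.trans (Subgroup.card_dvd_of_le hQK))
    · refine hlines _ (T.mul_mem ha (T.pow_mem hb i)) ?_
      rcases Nat.mod_two_eq_zero_or_one i with h | h <;>
        rw [← Nat.mod_add_div i 2, h, pow_add, pow_mul, pow_two, hT2 b hb, one_pow, mul_one]
      · simpa using ha1
      · rw [pow_one]
        intro hab
        exact hba ((eq_inv_of_mul_eq_one_right hab).trans (inv_eq_of_mul_eq_one_right (hT2 a ha)))
  have hsame : Nat.card (orbit K (x₀ : α)) = L := by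
    rw [hL, MulAction.orbit_eq_iff.2 x₀.2]
  have h1 : Nat.card P ∣ Nat.card (stabilizer K (x₀ : α)) := by
    refine Subgroup.card_dvd_of_le fun u hu => ?_
    show (u : M) • (x₀ : α) = x₀
    exact hQle ⟨u, hu, rfl⟩
  have h2 : q * Nat.card P ∣ Nat.card K := by
    rw [← hLc (x₀ : α), hsame]
    exact mul_dvd_mul hqL h1
  rw [P.card_eq_multiplicity, ← pow_succ', hq.pow_dvd_iff_le_factorization Nat.card_pos.ne'] at h2
  omega

/-- Klein's four group. -/
def klein : Subgroup (Equiv.Perm (Fin 4)) where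
  carrier := {σ | σ = 1 ∨ (σ * σ = 1 ∧ ∀ i, σ i ≠ i)}
  mul_mem' := by
    have : ∀ σ : Equiv.Perm (Fin 4), ∀ τ : Equiv.Perm (Fin 4), (σ = 1 ∨ (σ * σ = 1 ∧ ∀ i, σ i ≠ i)) →
        (τ = 1 ∨ (τ * τ = 1 ∧ ∀ i, τ i ≠ i)) →
        (σ * τ = 1 ∨ ((σ * τ) * (σ * τ) = 1 ∧ ∀ i, (σ * τ) i ≠ i)) := by
      set_option maxRecDepth 20000 in decide
    exact fun {σ τ} => this σ τ
  one_mem' := Or.inl rfl
  inv_mem' := by
    have : ∀ σ : Equiv.Perm (Fin 4), (σ = 1 ∨ (σ * σ = 1 ∧ ∀ i, σ i ≠ i)) →
        (σ⁻¹ = 1 ∨ (σ⁻¹ * σ⁻¹ = 1 ∧ ∀ i, σ⁻¹ i ≠ i)) := by decide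
    exact fun {σ} => this σ

theorem klein_spec : ∀ σ : Equiv.Perm (Fin 4), σ ∈ klein →
    σ * σ = 1 ∧ Equiv.Perm.sign σ = 1 := by
  have : ∀ σ : Equiv.Perm (Fin 4), (σ = 1 ∨ (σ * σ = 1 ∧ ∀ i, σ i ≠ i)) →
      σ * σ = 1 ∧ Equiv.Perm.sign σ = 1 := by decide
  exact this

theorem card_klein : Nat.card klein = 4 := by
  classical
  rw [Nat.card_eq_fintype_card]
  exact (Fintype.card_of_subtype
    (univ.filter fun σ : Equiv.Perm (Fin 4) => σ = 1 ∨ (σ * σ = 1 ∧ ∀ i, σ i ≠ i))
    (fun σ => by rw [mem_filter]; simp only [mem_univ, true_and]; rfl)).trans (by decide)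

theorem not_evenAt_five (hn : 7 ≤ Fintype.card α) (hA : EvenAt G 5)
    (htop : ∀ e : Fin 5 ↪ α, ∀ σ : Equiv.Perm (Fin 5), Equiv.Perm.sign σ = 1 → σ ∈ induced G e)
    (htr : IsMultiplyPretransitive G α 4) : False := by
  classical
  obtain ⟨e⟩ : Nonempty (Fin 4 ↪ α) :=
    Function.Embedding.nonempty_of_card_le (by rw [Fintype.card_fin]; omega)
  have hfix : ∀ t : G, t * t = 1 → t ≠ 1 → (univ.filter fun y : α => t • y = y).card ≤ 2 :=
    fun t ht ht1 => by have := fix_small G (by omega) hA ht ht1; omega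
  let W : Subgroup (patGroup (G := G) e) := klein.comap (patHom e)
  let ψ : W →* Equiv.Perm (Fin 4) := (patHom e).comp W.subtype
  have hK : ¬ 2 ∣ Nat.card ψ.ker := fun h => by
    obtain ⟨x, hx1, hxx⟩ := exists_invol h
    let t : G := (((x : W) : patGroup (G := G) e) : G)
    have ht1 : t ≠ 1 := fun h => hx1 (Subtype.ext (Subtype.ext (Subtype.ext h)))
    have htt : t * t = 1 := congrArg (fun z : ψ.ker => ((((z : W) : patGroup (G := G) e)) : G)) hxx
    have h4 : univ.map e ⊆ univ.filter fun y : α => t • y = y := by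
      intro y hy
      obtain ⟨i, -, rfl⟩ := mem_map.1 hy
      refine mem_filter.2 ⟨mem_univ _, ?_⟩
      have := patHom_spec e ((x : W) : patGroup (G := G) e) i
      rwa [show patHom e ((x : W) : patGroup (G := G) e) = 1 from x.2, Equiv.Perm.one_apply] at this
    have := (card_le_card h4).trans (hfix t htt ht1)
    rw [card_map, card_univ, Fintype.card_fin] at this
    omega
  have hrange : ψ.range = klein := by
    ext π
    constructor
    · rintro ⟨x, rfl⟩; exact x.2
    · intro hπ
      haveI := htr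
      obtain ⟨g, hg⟩ := MulAction.exists_smul_eq G e (π.toEmbedding.trans e)
      have hp : Pat π g e := fun i => DFunLike.congr_fun hg i
      have hpe : patHom e (⟨g, π, hp⟩ : patGroup (G := G) e) = π :=
        (patHom_spec e _).unique hp
      exact ⟨⟨⟨g, π, hp⟩, show patHom e _ ∈ klein by rwa [hpe]⟩, hpe⟩
  have hidx : ψ.ker.index = 4 := by rw [Subgroup.index_ker, hrange, card_klein]
  have hall : ∀ y : α, (∀ i, e i ≠ y) → ∀ x : W, x • y = y := by
    intro y hy
    let f5 : Fin (4 + 1) → α := Fin.snoc (α := fun _ => α) (⇑e) y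
    have hf5 : Function.Injective f5 := Fin.snoc_injective_iff.2
      ⟨e.injective, fun ⟨i, hi⟩ => hy i hi⟩
    let e5 : Fin 5 ↪ α := ⟨f5, hf5⟩
    have e5c : ∀ i : Fin 4, e5 i.castSucc = e i := fun i => by
      show Fin.snoc (α := fun _ => α) (⇑e) y i.castSucc = e i
      rw [Fin.snoc_castSucc]
    have e5l : e5 (Fin.last 4) = y := by
      show Fin.snoc (α := fun _ => α) (⇑e) y (Fin.last 4) = y
      rw [Fin.snoc_last]
    have hinv : ∀ x : W, x • y ∈ orbit ψ.ker y := by
      intro x
      let π := patHom e (x : patGroup (G := G) e)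
      let σ : Equiv.Perm (Fin 5) := (finSuccEquivLast).symm.permCongr π⁻¹.optionCongr
      have hσ : Equiv.Perm.sign σ = 1 := by
        simp only [σ, Equiv.Perm.sign_permCongr, Equiv.optionCongr_sign, Equiv.Perm.sign_inv]
        exact (klein_spec _ x.2).2
      obtain ⟨h, hh⟩ := htop e5 σ hσ
      have hhc : ∀ i, h • e i = e (π⁻¹ i) := fun i => by
        rw [← e5c, hh, ← e5c]
        congr 1
        simp [σ, Equiv.permCongr_apply]
      have hhl : h • y = y := by
        rw [← e5l, hh]
        congr 1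
        all_goals simp [σ, Equiv.permCongr_apply]
      let g : G := ((x : patGroup (G := G) e) : G) * h
      have hp1 : Pat 1 g e := fun i => by
        show (((x : patGroup (G := G) e) : G) * h) • e i = e i
        rw [mul_smul, hhc, patHom_spec e (x : patGroup (G := G) e) (π⁻¹ i)]
        show e (π (π⁻¹ i)) = e i
        rw [← Equiv.Perm.mul_apply, mul_inv_cancel, Equiv.Perm.one_apply]
      have hpe : patHom e (⟨g, 1, hp1⟩ : patGroup (G := G) e) = 1 := (patHom_spec e _).unique hp1
      refine ⟨⟨⟨⟨g, 1, hp1⟩, show patHom e _ ∈ klein by rw [hpe]; exact one_mem _⟩, hpe⟩, ?_⟩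
      show (((x : patGroup (G := G) e) : G) * h) • y = _
      rw [mul_smul, hhl]
      rfl
    have hker := orbit_trivial (α := α) ψ.ker hK hidx
      (fun x => show ψ (x * x) = 1 by rw [map_mul]; exact (klein_spec _ x.2).1) y hinv
      (fun x hxx hx1 => hfix (((x : patGroup (G := G) e)) : G)
        (congrArg (fun z : W => ((z : patGroup (G := G) e) : G)) hxx)
        fun h => hx1 (Subtype.ext (Subtype.ext h)))
    intro x
    obtain ⟨⟨u, hu⟩, hux⟩ := hinv x
    exact hux.symm.trans (hker u hu)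
  -- the involution
  obtain ⟨t, ht1, htt⟩ := exists_invol (M := W) (by
    rw [← ψ.ker.card_mul_index, hidx]; exact dvd_mul_of_dvd_right (by norm_num) _)
  have hsub : (univ.map e)ᶜ ⊆ univ.filter fun y : α => t • y = y := fun y hy =>
    mem_filter.2 ⟨mem_univ _, hall y (fun i hi => by simp [← hi] at hy) t⟩
  have := (card_le_card hsub).trans (hfix ((t : patGroup (G := G) e) : G)
    (congrArg (fun z : W => ((z : patGroup (G := G) e) : G)) htt)
    fun h => ht1 (Subtype.ext (Subtype.ext h)))
  rw [card_compl, card_map, card_univ, Fintype.card_fin] at this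
  omega

/-- The second Livingstone–Wagner theorem. -/
theorem livingstone_wagner {k : ℕ} (hk : 5 ≤ k) (hn : 2 * k ≤ Fintype.card α)
    (hh : IsPretransitive G (Set.powersetCard α k)) : IsMultiplyPretransitive G α k := by
  classical
  have htr := livingstone_wagner_pred G (show 2 ≤ k by omega) hn hh
  by_contra hnt
  have h2 : ∀ e : Fin k ↪ α, induced G e = alternatingGroup (Fin k) := by
    intro e
    have h := induced_index_le_two hk (Fintype.card α) G rfl htr hh e
    have h0 : (induced G e).index ≠ 0 := Subgroup.index_ne_zero_of_finite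
    have h1 : (induced G e).index ≠ 1 := fun h1 =>
      hnt (pretransitive_of_induced G hh e (Subgroup.index_eq_one.1 h1))
    exact Equiv.Perm.eq_alternatingGroup_of_index_eq_two (by omega)
  have hA : EvenAt G k := fun e σ hσ => by rwa [h2, Equiv.Perm.mem_alternatingGroup] at hσ
  rcases Nat.lt_or_ge k 6 with h | h
  · obtain rfl : k = 5 := by omega
    exact not_evenAt_five G (by omega) hA
      (fun e σ hσ => by rwa [h2, Equiv.Perm.mem_alternatingGroup]) htr
  · exact not_evenAt_six G h hn hA htr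

end Cfsg.Agent.Lib.Homog
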