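import Mathlib.GroupTheory.GroupAction.MultipleTransitivity
import Mathlib.GroupTheory.GroupAction.Quotient
import Mathlib.GroupTheory.Perm.Cycle.Type
import Mathlib.Data.Fintype.CardEmbedding
import Mathlib.GroupTheory.Index
import Mathlib.Combinatorics.Enumerative.DoubleCounting

/-!
A faithful 4-transitive group in which only the identity fixes five or more points
has degree at most 12.
-/

set_option autoImplicit false

namespace Cfsg.Agent.Lib.Homog

open MulAction Finset

theorem card_fix_modEq {X : Type*} [Fintype X] [DecidableEq X] (σ : Equiv.Perm X) {p : ℕ}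
    (hp : p.Prime) (h : σ ^ p = 1) :
    (univ.filter fun x => σ x = x).card ≡ Fintype.card X [MOD p] := by
  haveI := Fact.mk hp
  have := Equiv.Perm.card_compl_support_modEq (p := p) (n := 1) (σ := σ) (by rwa [pow_one])
  convert this using 2
  ext x
  simp [Equiv.Perm.mem_support]

theorem card_dvd_of_free {G X : Type*} [Group G] [MulAction G X] [Finite X]
    (free : ∀ (g : G) (x : X), g • x = x → g = 1) : Nat.card G ∣ Nat.card X := by
  classical
  haveI := Fintype.ofFinite (orbitRel.Quotient G X)
  rw [Nat.card_congr (selfEquivSigmaOrbits G X), Nat.card_sigma]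
  refine dvd_sum fun ω _ => ?_
  refine dvd_of_eq (Nat.card_congr (Equiv.ofBijective
    (fun g => (⟨g • Quotient.out ω, mem_orbit _ g⟩ : orbit G (Quotient.out ω))) ⟨?_, ?_⟩))
  · intro a b hab
    have h : a • Quotient.out ω = b • Quotient.out ω := congrArg Subtype.val hab
    have := free (b⁻¹ * a) (Quotient.out ω) (by rw [mul_smul, h, inv_smul_smul])
    exact (inv_mul_eq_one.1 this).symm
  · rintro ⟨y, g, hg⟩
    exact ⟨g, Subtype.ext hg⟩

theorem dvd_card_of_coprime_stabilizer {G X : Type*} [Group G] [MulAction G X] [Finite X] {d : ℕ}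
    (hd : d ∣ Nat.card G) (h : ∀ x : X, Nat.Coprime d (Nat.card (stabilizer G x))) :
    d ∣ Nat.card X := by
  classical
  haveI := Fintype.ofFinite (orbitRel.Quotient G X)
  rw [Nat.card_congr (selfEquivSigmaOrbits G X), Nat.card_sigma]
  refine dvd_sum fun ω _ => ?_
  refine (h (Quotient.out ω)).dvd_of_dvd_mul_right ?_
  rw [Nat.card_coe_set_eq, ← MulAction.index_stabilizer, Subgroup.index_mul_card]
  exact hd

theorem perm4_order3 : ∀ σ : Equiv.Perm (Fin 4), σ * (σ * σ) = 1 → σ ≠ 1 →
    (univ.filter fun j => σ j = j).card = 1 ∧ (univ.filter fun τ => τ * σ = σ * τ).card ≤ 3 := by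
  decide

variable {G Ω : Type*} [Group G] [MulAction G Ω]

/-- `g` acts on the labelled tuple `e` as the permutation `π` of the labels. -/
def Pat (π : Equiv.Perm (Fin 4)) (g : G) (e : Fin 4 ↪ Ω) : Prop := ∀ i, g • e i = e (π i)

theorem pat_one_iff (g : G) (e : Fin 4 ↪ Ω) : Pat 1 g e ↔ g • e = e := by
  simp [Pat, Function.Embedding.ext_iff, Function.Embedding.smul_apply]

theorem Pat.mul {π π' : Equiv.Perm (Fin 4)} {g h : G} {e : Fin 4 ↪ Ω}
    (a : Pat π g e) (b : Pat π' h e) : Pat (π * π') (g * h) e := fun i => by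
  rw [mul_smul, b i, a (π' i)]; rfl

theorem Pat.inv {π : Equiv.Perm (Fin 4)} {g : G} {e : Fin 4 ↪ Ω} (a : Pat π g e) :
    Pat π⁻¹ g⁻¹ e := fun i => by
  rw [inv_smul_eq_iff, a (π⁻¹ i), ← Equiv.Perm.mul_apply, mul_inv_cancel, Equiv.Perm.one_apply]

theorem Pat.unique {π π' : Equiv.Perm (Fin 4)} {g : G} {e : Fin 4 ↪ Ω}
    (a : Pat π g e) (b : Pat π' g e) : π = π' :=
  Equiv.ext fun i => e.injective ((a i).symm.trans (b i))

theorem Pat.conj {π : Equiv.Perm (Fin 4)} {g : G} {e : Fin 4 ↪ Ω} (a : Pat π g e) (h : G) :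
    Pat π (h * g * h⁻¹) (h • e) := fun i => by
  simp only [Function.Embedding.smul_apply, mul_smul, inv_smul_smul, a i]

/-- Elements preserving the range of `e`. -/
def patGroup (e : Fin 4 ↪ Ω) : Subgroup G where
  carrier := {g | ∃ π, Pat π g e}
  mul_mem' := fun ⟨π, a⟩ ⟨π', b⟩ => ⟨_, a.mul b⟩
  one_mem' := ⟨1, fun i => by simp⟩
  inv_mem' := fun ⟨π, a⟩ => ⟨_, a.inv⟩

/-- The action of `patGroup e` on the labels. -/
noncomputable def patHom (e : Fin 4 ↪ Ω) : patGroup (G := G) e →* Equiv.Perm (Fin 4) :=
  MonoidHom.mk' (fun g => Classical.choose g.2) fun g h =>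
    Pat.unique (Classical.choose_spec (g * h).2)
      ((Classical.choose_spec g.2).mul (Classical.choose_spec h.2))

theorem patHom_spec (e : Fin 4 ↪ Ω) (g : patGroup (G := G) e) : Pat (patHom e g) (g : G) e :=
  Classical.choose_spec g.2

/-- The transitivity and five-point hypotheses. -/
structure Hyp (G Ω : Type*) [Group G] [MulAction G Ω] [Fintype Ω] [DecidableEq Ω] : Prop where
  trans : ∀ e e' : Fin 4 ↪ Ω, ∃ g : G, g • e = e'
  five : ∀ g : G, g ≠ 1 → (univ.filter fun y : Ω => g • y = y).card ≤ 4

variable [Fintype Ω] [DecidableEq Ω] (H : Hyp G Ω)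
include H

theorem Hyp.exists_pat (π : Equiv.Perm (Fin 4)) (e : Fin 4 ↪ Ω) : ∃ g : G, Pat π g e := by
  obtain ⟨g, hg⟩ := H.trans e (π.toEmbedding.trans e)
  exact ⟨g, fun i => by simpa [Function.Embedding.smul_apply] using DFunLike.congr_fun hg i⟩

theorem Hyp.eq_one_of_five {g : G} (s : Finset Ω) (hs : 5 ≤ s.card) (h : ∀ y ∈ s, g • y = y) :
    g = 1 := by
  by_contra hg
  have := card_le_card (s := s) (t := univ.filter fun y : Ω => g • y = y)
    (fun y hy => mem_filter.2 ⟨mem_univ _, h y hy⟩)
  have := H.five g hg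
  omega

theorem Hyp.free (e : Fin 4 ↪ Ω) (g : G) (hg : g • e = e) (x : Ω) (hx : ∀ i, e i ≠ x)
    (hgx : g • x = x) : g = 1 := by
  refine H.eq_one_of_five (insert x (univ.map e)) ?_ ?_
  · rw [card_insert_of_notMem (by simpa using hx), card_map, card_univ, Fintype.card_fin]
  · intro y hy
    rcases mem_insert.1 hy with rfl | hy
    · exact hgx
    · obtain ⟨i, -, rfl⟩ := mem_map.1 hy
      simpa [Function.Embedding.smul_apply] using DFunLike.congr_fun hg i

theorem Hyp.stab_dvd (e : Fin 4 ↪ Ω) :
    Nat.card (stabilizer G e) ∣ Fintype.card Ω - 4 := by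
  let X : SubMulAction (stabilizer G e) Ω :=
    { carrier := {x | ∀ i, e i ≠ x}
      smul_mem' := fun g x hx i hi => hx i (by
        have : (g : G) • e i = e i := by
          simpa [Function.Embedding.smul_apply] using
            DFunLike.congr_fun (mem_stabilizer_iff.1 g.2) i
        exact MulAction.injective (g : G) (this.trans hi)) }
  have hc : Nat.card X = Fintype.card Ω - 4 := by
    rw [Nat.card_eq_fintype_card.symm.trans
      (Nat.card_congr (Equiv.Set.sumCompl (Set.range e)).symm), Nat.card_sum,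
      Nat.card_range_of_injective e.injective, Nat.card_fin, Nat.add_sub_cancel_left]
    exact Nat.card_congr (Equiv.subtypeEquivRight fun x => by
      show (∀ i, e i ≠ x) ↔ x ∈ (Set.range e)ᶜ
      simp)
  rw [← hc]
  refine card_dvd_of_free fun g x hgx => ?_
  exact Subtype.ext (H.free e g g.2 x x.2 (congrArg Subtype.val hgx))

theorem Hyp.card_patGroup [Finite G] (e : Fin 4 ↪ Ω) :
    Nat.card (patGroup (G := G) e) = 24 * Nat.card (stabilizer G e) := by
  have hker : Nat.card (patHom (G := G) e).ker = Nat.card (stabilizer G e) := by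
    refine Nat.card_congr
      { toFun := fun g => ⟨((g : patGroup (G := G) e) : G), ?_⟩
        invFun := fun g => ⟨⟨(g : G), 1, (pat_one_iff _ _).2 g.2⟩, ?_⟩
        left_inv := fun g => rfl
        right_inv := fun g => rfl }
    · have := patHom_spec e (g : patGroup (G := G) e)
      rw [g.2, pat_one_iff] at this
      exact this
    · exact (patHom_spec e _).unique ((pat_one_iff _ _).2 g.2)
  have hsurj : Function.Surjective (patHom (G := G) e) := fun π => by
    obtain ⟨g, hg⟩ := H.exists_pat π e
    exact ⟨⟨g, π, hg⟩, (patHom_spec e _).unique hg⟩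
  have h := (patHom (G := G) e).ker.card_mul_index
  rw [hker, Subgroup.index_ker, MonoidHom.range_eq_top.2 hsurj, Subgroup.card_top,
    Nat.card_perm, Nat.card_fin] at h
  rw [← h, mul_comm]
  rfl

omit H

section Count

variable [Fintype G] [DecidableEq G]

open Classical in
/-- Involutions. -/
noncomputable def invols (G : Type*) [Group G] [Fintype G] : Finset G :=
  univ.filter fun g => g ≠ 1 ∧ g * g = 1

open Classical in
/-- Involutions acting as `π` on `e`. -/
noncomputable def patInvols (π : Equiv.Perm (Fin 4)) (e : Fin 4 ↪ Ω) : Finset G :=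
  (invols G).filter fun g => Pat π g e

open Classical in
/-- Tuples on which `g` acts as `π`. -/
noncomputable def patTuples (π : Equiv.Perm (Fin 4)) (g : G) : Finset (Fin 4 ↪ Ω) :=
  univ.filter fun e => Pat π g e

theorem mem_invols {g : G} : g ∈ invols G ↔ g ≠ 1 ∧ g * g = 1 := by simp [invols]

theorem mem_patInvols {π : Equiv.Perm (Fin 4)} {e : Fin 4 ↪ Ω} {g : G} :
    g ∈ patInvols π e ↔ g ≠ 1 ∧ g * g = 1 ∧ Pat π g e := by
  simp [patInvols, mem_invols, and_assoc]

theorem conj_mem_patInvols {π : Equiv.Perm (Fin 4)} {e : Fin 4 ↪ Ω} {g : G}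
    (hg : g ∈ patInvols π e) (h : G) : h * g * h⁻¹ ∈ patInvols π (h • e) := by
  rw [mem_patInvols] at hg ⊢
  refine ⟨fun he => hg.1 ?_, ?_, hg.2.2.conj h⟩
  · have : g = h⁻¹ * (h * g * h⁻¹) * h := by group
    rw [this, he]; group
  · calc h * g * h⁻¹ * (h * g * h⁻¹) = h * (g * g) * h⁻¹ := by group
      _ = 1 := by rw [hg.2.1]; group

include H in
theorem Hyp.card_patInvols_eq (π : Equiv.Perm (Fin 4)) (e e' : Fin 4 ↪ Ω) :
    (patInvols (G := G) π e).card = (patInvols (G := G) π e').card := by
  have key : ∀ a b : Fin 4 ↪ Ω,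
      (patInvols (G := G) π a).card ≤ (patInvols (G := G) π b).card := by
    intro a b
    obtain ⟨h, rfl⟩ := H.trans a b
    exact card_le_card_of_injOn (fun g => h * g * h⁻¹) (fun g hg => conj_mem_patInvols hg h)
      (fun x _ y _ hxy => mul_left_cancel (mul_right_cancel hxy))
  exact le_antisymm (key e e') (key e' e)

include H in
theorem Hyp.card_patInvols_le (π : Equiv.Perm (Fin 4)) (e : Fin 4 ↪ Ω) :
    (patInvols (G := G) π e).card ≤ Nat.card (stabilizer G e) := by
  obtain ⟨g0, hg0⟩ := H.exists_pat π e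
  rw [← Nat.card_eq_finsetCard]
  refine Nat.card_le_card_of_injective
    (fun g : {g // g ∈ patInvols (G := G) π e} => (⟨g0⁻¹ * g.1, ?_⟩ : stabilizer G e)) ?_
  · have := hg0.inv.mul (mem_patInvols.1 g.2).2.2
    rw [inv_mul_cancel, pat_one_iff] at this
    exact this
  · intro a b hab
    exact Subtype.ext (mul_left_cancel (congrArg Subtype.val hab))

include H in
theorem Hyp.count (π : Equiv.Perm (Fin 4)) (e : Fin 4 ↪ Ω) :
    (patInvols (G := G) π e).card * Fintype.card (Fin 4 ↪ Ω) =
      ∑ g ∈ invols G, (patTuples (Ω := Ω) π g).card := by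
  classical
  have h := sum_card_bipartiteAbove_eq_sum_card_bipartiteBelow (r := fun (g : G) e => Pat π g e)
    (s := invols G) (t := (univ : Finset (Fin 4 ↪ Ω)))
  simp only [bipartiteAbove, bipartiteBelow] at h
  have h1 : ∀ g : G, (patTuples (Ω := Ω) π g).card = (univ.filter fun e => Pat π g e).card :=
    fun g => by unfold patTuples; congr
  simp only [h1]
  rw [h, sum_congr rfl (fun e' _ => show ((invols G).filter fun g => Pat π g e').card =
      (patInvols (G := G) π e).card by
    rw [H.card_patInvols_eq π e e']; simp [patInvols]), sum_const, card_univ, smul_eq_mul, mul_comm]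

/-- fixed points -/
def fixF (g : G) : Finset Ω := univ.filter fun y => g • y = y

/-- moved points -/
def movF (g : G) : Finset Ω := univ.filter fun y => g • y ≠ y

theorem card_fix_add_mov (g : G) : (fixF (Ω := Ω) g).card + (movF (Ω := Ω) g).card = Fintype.card Ω := by
  rw [fixF, movF, card_filter_add_card_filter_not, card_univ]

theorem invol_smul_smul {g : G} (hg : g * g = 1) (y : Ω) : g • g • y = y := by
  rw [← mul_smul, hg, one_smul]

theorem smul_mem_movF {g : G} (hg : g * g = 1) {y : Ω} (hy : y ∈ movF g) : g • y ∈ movF g := by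
  simp only [movF, mem_filter, mem_univ, true_and] at hy ⊢
  rw [invol_smul_smul hg]
  exact Ne.symm hy

theorem patTuples_one (g : G) :
    (patTuples (Ω := Ω) 1 g).card = (fixF (Ω := Ω) g).card.descFactorial 4 := by
  classical
  have h : Fintype.card (Fin 4 ↪ fixF (Ω := Ω) g) = (fixF (Ω := Ω) g).card.descFactorial 4 := by
    rw [Fintype.card_embedding_eq, Fintype.card_coe, Fintype.card_fin]
  rw [← h, ← card_univ]
  refine card_bij' (fun e he => ⟨fun i => ⟨e i, ?_⟩, fun i j hij => e.injective (congrArg Subtype.val hij)⟩)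
    (fun e _ => e.trans (Function.Embedding.subtype _)) (fun _ _ => mem_univ _) ?_ (fun _ _ => rfl)
    (fun _ _ => rfl)
  · simp only [patTuples, mem_filter, mem_univ, true_and] at he
    simpa [fixF] using he i
  · intro e _
    simp only [patTuples, mem_filter, mem_univ, true_and]
    intro i
    have := (e i).2
    simp only [fixF, mem_filter, mem_univ, true_and] at this
    exact this

/-- the pattern `(01)(2)(3)` -/
abbrev π₁ : Equiv.Perm (Fin 4) := Equiv.swap 0 1
/-- the pattern `(01)(23)` -/
abbrev π₂ : Equiv.Perm (Fin 4) := Equiv.swap 0 1 * Equiv.swap 2 3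

theorem patTuples_swap {g : G} (hg : g * g = 1) :
    (patTuples (Ω := Ω) π₁ g).card =
      (movF (Ω := Ω) g).card * ((fixF (Ω := Ω) g).card * (fixF (Ω := Ω) g).card - (fixF (Ω := Ω) g).card) := by
  classical
  rw [← offDiag_card, ← card_product]
  refine card_bij (fun e _ => (e 0, e 2, e 3)) ?_ ?_ ?_
  · intro e he
    simp only [patTuples, mem_filter, mem_univ, true_and] at he
    have h0 : g • e 0 = e 1 := he 0
    have h2 : g • e 2 = e 2 := he 2
    have h3 : g • e 3 = e 3 := he 3
    simp only [mem_product, mem_offDiag, movF, fixF, mem_filter, mem_univ, true_and, h0, h2, h3]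
    exact ⟨e.injective.ne (by decide), e.injective.ne (by decide)⟩
  · intro a ha b hb hab
    simp only [patTuples, mem_filter, mem_univ, true_and] at ha hb
    simp only [Prod.mk.injEq] at hab
    have h1 : a 1 = b 1 := by
      have e1 : g • a 0 = a 1 := ha 0
      have e2 : g • b 0 = b 1 := hb 0
      rw [← e1, ← e2, hab.1]
    ext i
    fin_cases i
    · exact hab.1
    · exact h1
    · exact hab.2.1
    · exact hab.2.2
  · rintro ⟨a, c, d⟩ h
    simp only [mem_product, mem_offDiag, movF, fixF, mem_filter, mem_univ, true_and] at h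
    obtain ⟨ha, hc, hd, hcd⟩ := h
    have hga : g • g • a = a := invol_smul_smul hg a
    have hac : a ≠ c := fun h => ha (h ▸ hc)
    have had : a ≠ d := fun h => ha (h ▸ hd)
    have hbc : g • a ≠ c := fun h => hac (MulAction.injective g (h.trans hc.symm))
    have hbd : g • a ≠ d := fun h => had (MulAction.injective g (h.trans hd.symm))
    refine ⟨⟨![a, g • a, c, d], ?_⟩, ?_, ?_⟩
    · intro i j hij
      have hab : g • a ≠ a := ha
      fin_cases i <;> fin_cases j <;>
        simp [hab, hab.symm, hac, hac.symm, had, had.symm, hbc, hbc.symm, hbd, hbd.symm, hcd, hcd.symm] at hij ⊢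
    · simp only [patTuples, mem_filter, mem_univ, true_and]
      intro i
      fin_cases i
      · rfl
      · exact hga
      · exact hc
      · exact hd
    · rfl

theorem patTuples_swap_swap {g : G} (hg : g * g = 1) :
    (patTuples (Ω := Ω) π₂ g).card = (movF (Ω := Ω) g).card * ((movF (Ω := Ω) g).card - 2) := by
  classical
  have hc : ((movF (Ω := Ω) g).sigma fun a => movF (Ω := Ω) g \ {a, g • a}).card
      = (movF (Ω := Ω) g).card * ((movF (Ω := Ω) g).card - 2) := by
    rw [card_sigma, sum_congr rfl (fun a ha => show _ = (movF (Ω := Ω) g).card - 2 from ?_),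
      sum_const, smul_eq_mul]
    have hne : a ≠ g • a := Ne.symm (by simpa [movF] using ha)
    rw [card_sdiff_of_subset, card_pair hne]
    intro y hy
    rcases mem_insert.1 hy with rfl | hy
    · exact ha
    · rw [mem_singleton.1 hy]; exact smul_mem_movF hg ha
  rw [← hc]
  refine card_bij (fun e _ => ⟨e 0, e 2⟩) ?_ ?_ ?_
  · intro e he
    simp only [patTuples, mem_filter, mem_univ, true_and] at he
    have h0 : g • e 0 = e 1 := he 0
    have h2 : g • e 2 = e 3 := he 2
    simp only [mem_sigma, movF, mem_sdiff, mem_filter, mem_univ, true_and, h0, h2, mem_insert,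
      mem_singleton, not_or]
    exact ⟨e.injective.ne (by decide), e.injective.ne (by decide), e.injective.ne (by decide),
      e.injective.ne (by decide)⟩
  · intro a ha b hb hab
    simp only [patTuples, mem_filter, mem_univ, true_and] at ha hb
    simp only [Sigma.mk.injEq, heq_eq_eq] at hab
    have h1 : a 1 = b 1 := by
      have e1 : g • a 0 = a 1 := ha 0
      have e2 : g • b 0 = b 1 := hb 0
      rw [← e1, ← e2, hab.1]
    have h3 : a 3 = b 3 := by
      have e1 : g • a 2 = a 3 := ha 2
      have e2 : g • b 2 = b 3 := hb 2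
      rw [← e1, ← e2, hab.2]
    ext i
    fin_cases i
    · exact hab.1
    · exact h1
    · exact hab.2
    · exact h3
  · rintro ⟨a, c⟩ h
    simp only [mem_sigma, movF, mem_sdiff, mem_filter, mem_univ, true_and, mem_insert,
      mem_singleton, not_or] at h
    obtain ⟨ha, hc, hca, hcb⟩ := h
    have hga : g • g • a = a := invol_smul_smul hg a
    have hgc : g • g • c = c := invol_smul_smul hg c
    have hbd : g • a ≠ g • c := fun h => hca (MulAction.injective g h).symm
    have had : a ≠ g • c := fun h => hcb (by rw [h, hgc])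
    refine ⟨⟨![a, g • a, c, g • c], ?_⟩, ?_, ?_⟩
    · intro i j hij
      have hab : g • a ≠ a := ha
      have hcd : g • c ≠ c := hc
      fin_cases i <;> fin_cases j <;>
        simp [hab, hab.symm, hca, Ne.symm hca, hcb, Ne.symm hcb, had, had.symm, hbd, hbd.symm, hcd, hcd.symm] at hij ⊢
    · simp only [patTuples, mem_filter, mem_univ, true_and]
      intro i
      fin_cases i
      · rfl
      · exact hga
      · rfl
      · exact hgc
    · rfl

end Count

end Cfsg.Agent.Lib.Homog
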