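import Cfsg.Agent.Lib.Homog.PredCases
import Cfsg.Agent.S0743
import Mathlib.GroupTheory.Nilpotent
import Mathlib.GroupTheory.Sylow

/-!
The group induced on a `k`-set, and the core of the second Livingstone–Wagner theorem.
-/

set_option autoImplicit false
set_option linter.unusedSectionVars false

namespace Cfsg.Agent.Lib.Homog

open MulAction Finset
open scoped Pointwise

variable {α : Type*} [Fintype α] [DecidableEq α] (G : Subgroup (Equiv.Perm α))

/-- The permutations of the labels of `e` induced by `G`. -/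
def induced {k : ℕ} (e : Fin k ↪ α) : Subgroup (Equiv.Perm (Fin k)) where
  carrier := {σ | ∃ g : G, ∀ i, g • e i = e (σ i)}
  mul_mem' := fun {σ τ} ⟨g, hg⟩ ⟨h, hh⟩ => ⟨g * h, fun i => by rw [mul_smul, hh, hg]; rfl⟩
  one_mem' := ⟨1, fun i => by simp⟩
  inv_mem' := fun {σ} ⟨g, hg⟩ => ⟨g⁻¹, fun i => by
    rw [inv_smul_eq_iff, hg, ← Equiv.Perm.mul_apply, mul_inv_cancel, Equiv.Perm.one_apply]⟩

theorem exists_range_smul {k : ℕ} (hh : IsPretransitive G (Set.powersetCard α k))
    (x y : Fin k ↪ α) : ∃ (g : G) (σ : Equiv.Perm (Fin k)), ∀ i, g • x i = y (σ i) := by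
  obtain ⟨g, hg⟩ := hh.exists_smul_eq ⟨univ.map x, by simp⟩ ⟨univ.map y, by simp⟩
  have hg' : g • univ.map x = univ.map y := congrArg Subtype.val hg
  have hm : ∀ i, ∃ j, y j = g • x i := fun i => by
    have : g • x i ∈ univ.map y :=
      hg' ▸ Finset.smul_mem_smul_finset (mem_map_of_mem x (mem_univ i))
    simpa using this
  choose f hf using hm
  have hinj : Function.Injective f := fun i j h =>
    x.injective (MulAction.injective g ((hf i).symm.trans ((congrArg y h).trans (hf j))))
  exact ⟨g, Equiv.ofBijective f (Finite.injective_iff_bijective.1 hinj), fun i => (hf i).symm⟩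

theorem pretransitive_of_induced {k : ℕ} (hh : IsPretransitive G (Set.powersetCard α k))
    (e : Fin k ↪ α) (h : induced G e = ⊤) : IsMultiplyPretransitive G α k := by
  rw [isMultiplyPretransitive_iff]
  intro x y
  obtain ⟨g, σ, hg⟩ := exists_range_smul G hh x e
  obtain ⟨g', τ, hg'⟩ := exists_range_smul G hh y e
  obtain ⟨h0, hh0⟩ : τ * σ⁻¹ ∈ induced G e := h ▸ Subgroup.mem_top _
  refine ⟨g'⁻¹ * h0 * g, Function.Embedding.ext fun i => ?_⟩
  rw [Function.Embedding.smul_apply, mul_smul, mul_smul, hg, hh0, inv_smul_eq_iff, hg']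
  simp

theorem card_mul_choose_mul {k : ℕ} (e : Fin k ↪ α)
    (hh : IsPretransitive G (Set.powersetCard α k)) :
    Nat.card (induced G e) * Nat.card (fixingSubgroup G ((univ.map e : Finset α) : Set α)) *
      (Fintype.card α).choose k = Nat.card G := by
  classical
  let D : Set.powersetCard α k := ⟨univ.map e, by simp⟩
  have hmem : ∀ (g : stabilizer G D) (i : Fin k), ∃ j, e j = (g : G) • e i := by
    intro g i
    have hg : (g : G) • univ.map e = univ.map e := congrArg Subtype.val g.2
    have : (g : G) • e i ∈ univ.map e :=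
      hg ▸ Finset.smul_mem_smul_finset (mem_map_of_mem e (mem_univ i))
    simpa using this
  choose f hf using hmem
  have hinj : ∀ g, Function.Injective (f g) := fun g i j h =>
    e.injective (MulAction.injective (g : G) ((hf g i).symm.trans ((congrArg e h).trans (hf g j))))
  let φ : stabilizer G D →* Equiv.Perm (Fin k) :=
    MonoidHom.mk' (fun g => Equiv.ofBijective (f g) (Finite.injective_iff_bijective.1 (hinj g)))
      fun g h => Equiv.ext fun i => e.injective (by
        show e (f (g * h) i) = e (f g (f h i))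
        rw [hf, hf, hf, ← mul_smul]; rfl)
  have hφ : ∀ g i, e (φ g i) = (g : G) • e i := hf
  have hrange : φ.range = induced G e := by
    ext σ
    constructor
    · rintro ⟨g, rfl⟩
      exact ⟨g, fun i => (hφ g i).symm⟩
    · rintro ⟨g, hg⟩
      have hgD : g ∈ stabilizer G D := by
        refine Subtype.ext ?_
        show g • univ.map e = univ.map e
        refine eq_of_subset_of_card_le ?_ (by rw [Finset.card_smul_finset])
        intro y hy
        rw [Finset.mem_smul_finset] at hy
        obtain ⟨x, hx, rfl⟩ := hy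
        obtain ⟨i, -, rfl⟩ := mem_map.1 hx
        rw [hg]
        exact mem_map_of_mem e (mem_univ _)
      exact ⟨⟨g, hgD⟩, Equiv.ext fun i => e.injective ((hφ _ i).trans (hg i))⟩
  have hker : Nat.card φ.ker = Nat.card (fixingSubgroup G ((univ.map e : Finset α) : Set α)) := by
    refine Nat.card_congr
      { toFun := fun g => ⟨((g : stabilizer G D) : G), (mem_fixingSubgroup_iff G).2 fun y hy => ?_⟩
        invFun := fun g => ⟨⟨(g : G), ?_⟩, ?_⟩
        left_inv := fun g => rfl
        right_inv := fun g => rfl }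
    · obtain ⟨i, -, rfl⟩ := mem_map.1 (mem_coe.1 hy)
      rw [← hφ, show φ (g : stabilizer G D) = 1 from g.2]; rfl
    · refine Subtype.ext ?_
      show (g : G) • univ.map e = univ.map e
      refine eq_of_subset_of_card_le ?_ (by rw [Finset.card_smul_finset])
      intro y hy
      rw [Finset.mem_smul_finset] at hy
      obtain ⟨x, hx, rfl⟩ := hy
      rwa [(mem_fixingSubgroup_iff G).1 g.2 x hx]
    · refine Equiv.ext fun i => e.injective ((hφ _ i).trans ?_)
      exact (mem_fixingSubgroup_iff G).1 g.2 _ (by simp)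
  haveI := hh
  have h1 := φ.ker.card_mul_index
  have h2 := (stabilizer G D).card_mul_index
  rw [Subgroup.index_ker, hrange, hker] at h1
  rw [index_stabilizer_of_transitive, Set.powersetCard.card,
    Nat.card_eq_fintype_card (α := α), ← h1] at h2
  rw [← h2]; ring

/-- `p`-subgroups of full order of one group are conjugate in it. -/
theorem exists_conj_mem {M : Type*} [Group M] [Finite M] {p : ℕ} (hp : p.Prime) (K P Q : Subgroup M)
    (hP : P ≤ K) (hQ : Q ≤ K) (hPc : Nat.card P = p ^ (Nat.card K).factorization p)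
    (hQc : Nat.card Q = p ^ (Nat.card K).factorization p) :
    ∃ u ∈ K, ∀ x ∈ P, u * x * u⁻¹ ∈ Q := by
  haveI := Fact.mk hp
  let P' : Sylow p K := Sylow.ofCard (P.subgroupOf K)
    (by rw [Nat.card_congr (Subgroup.subgroupOfEquivOfLe hP).toEquiv, hPc])
  let Q' : Sylow p K := Sylow.ofCard (Q.subgroupOf K)
    (by rw [Nat.card_congr (Subgroup.subgroupOfEquivOfLe hQ).toEquiv, hQc])
  obtain ⟨u, hu⟩ := MulAction.exists_smul_eq K P' Q'
  refine ⟨u, u.2, fun x hx => ?_⟩
  have h1 : (⟨x, hP hx⟩ : K) ∈ (P' : Subgroup K) := hx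
  have h2 : u * ⟨x, hP hx⟩ * u⁻¹ ∈ ((u • P' : Sylow p K) : Subgroup K) :=
    ⟨⟨x, hP hx⟩, h1, rfl⟩
  rw [hu] at h2
  exact h2

/-- Witt's lemma. -/
theorem witt_lemma {p : ℕ} (hp : p.Prime) (P : Subgroup G) {F : Finset α}
    (hF : ∀ y, y ∈ F ↔ ∀ x ∈ P, x • y = y) {j : ℕ} (e₁ e₂ : Fin j ↪ α)
    (h₁ : ∀ i, e₁ i ∈ F) (h₂ : ∀ i, e₂ i ∈ F)
    (hP : Nat.card P =
      p ^ (Nat.card (fixingSubgroup G ((univ.map e₁ : Finset α) : Set α))).factorization p)
    (g : G) (hg : ∀ i, g • e₁ i = e₂ i) :
    ∃ g' ∈ Subgroup.normalizer (P : Set G), ∀ i, g' • e₁ i = e₂ i := by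
  classical
  have hPK : P ≤ fixingSubgroup G ((univ.map e₁ : Finset α) : Set α) := by
    intro x hx
    rw [mem_fixingSubgroup_iff]
    intro y hy
    obtain ⟨i, -, rfl⟩ := mem_map.1 (mem_coe.1 hy)
    exact (hF _).1 (h₁ i) x hx
  let Q : Subgroup G := P.map (MulAut.conj g⁻¹).toMonoidHom
  have hQK : Q ≤ fixingSubgroup G ((univ.map e₁ : Finset α) : Set α) := by
    rintro _ ⟨x, hx, rfl⟩
    rw [mem_fixingSubgroup_iff]
    intro y hy
    obtain ⟨i, -, rfl⟩ := mem_map.1 (mem_coe.1 hy)
    show (g⁻¹ * x * g⁻¹⁻¹) • e₁ i = e₁ i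
    rw [inv_inv, mul_smul, mul_smul, hg, (hF _).1 (h₂ i) x hx, inv_smul_eq_iff, hg]
  obtain ⟨u, hu, huP⟩ := exists_conj_mem hp _ P Q hPK hQK hP
    (by rw [Subgroup.card_map_of_injective (MulAut.conj g⁻¹).injective, hP])
  refine ⟨g * u, ?_, fun i => by
    rw [mul_smul, (mem_fixingSubgroup_iff G).1 hu _ (by simp), hg]⟩
  rw [← Subgroup.inv_mem_iff]
  suffices h : ∀ x ∈ P, g * u * x * (g * u)⁻¹ ∈ P by
    refine Subgroup.inv_mem _ ?_
    rw [Subgroup.mem_normalizer_iff_map_conj_eq]
    refine Subgroup.eq_of_le_of_card_ge ?_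
      (by rw [Subgroup.card_map_of_injective (MulAut.conj (g * u)).injective])
    rintro _ ⟨x, hx, rfl⟩
    exact h x hx
  intro x hx
  obtain ⟨z, hz, hze⟩ := huP x hx
  have hze' : g⁻¹ * z * g⁻¹⁻¹ = u * x * u⁻¹ := hze
  rw [show g * u * x * (g * u)⁻¹ = g * (u * x * u⁻¹) * g⁻¹ by group, ← hze']
  simpa [mul_assoc] using hz

/-- In a `(k-1)`-transitive, `k`-homogeneous group the index of the induced group is at most two. -/
theorem induced_index_le_two.{u} {k : ℕ} (hk : 5 ≤ k) (n : ℕ) :
    ∀ {α : Type u} [Fintype α] [DecidableEq α] (G : Subgroup (Equiv.Perm α)),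
      Fintype.card α = n → IsMultiplyPretransitive G α (k - 1) →
      IsPretransitive G (Set.powersetCard α k) → ∀ e : Fin k ↪ α, (induced G e).index ≤ 2 := by
  induction n using Nat.strong_induction_on with
  | _ n ih =>
  intro α _ _ G hn htr hh e
  classical
  by_contra hc2
  subst hn
  have hkn : k ≤ Fintype.card α := by simpa using Fintype.card_le_of_embedding e
  set c := (induced G e).index with hcdef
  set h := Nat.card (induced G e) with hhdef
  have hck : c * h = k.factorial := by
    rw [mul_comm, hhdef, hcdef, Subgroup.card_mul_index, Nat.card_perm, Nat.card_fin]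
  set D : Finset α := univ.map e with hDdef
  have hD : D.card = k := by simp [hDdef]
  obtain ⟨S, hSD, hS⟩ := exists_subset_card_eq (show k - 1 ≤ D.card by omega)
  have hKD : ∀ s : Finset α, s.card = k →
      Nat.card (fixingSubgroup G (s : Set α)) = Nat.card (fixingSubgroup G (D : Set α)) :=
    fun s hs => card_fixing_eq_of_homog G hh s D hs hD
  obtain ⟨L, hL⟩ : Nat.card (fixingSubgroup G (D : Set α)) ∣
      Nat.card (fixingSubgroup G (S : Set α)) :=
    Subgroup.card_dvd_of_le (fixingSubgroup_antitone G α (coe_subset.2 hSD))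
  have hG : ∀ T : Finset α, T.card = k - 1 →
      Nat.card (fixingSubgroup G (T : Set α)) * (Fintype.card α).descFactorial (k - 1) = Nat.card G := by
    intro T hT
    have := card_fixing_mul G T (hT ▸ htr)
    rwa [hT] at this
  have hd0 : 0 < (Fintype.card α).descFactorial (k - 1) := Nat.descFactorial_pos.2 (by omega)
  have hKS : ∀ T : Finset α, T.card = k - 1 →
      Nat.card (fixingSubgroup G (T : Set α)) = Nat.card (fixingSubgroup G (D : Set α)) * L := by
    intro T hT
    rw [← hL]
    exact Nat.eq_of_mul_eq_mul_right hd0 ((hG T hT).trans (hG S hS).symm)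
  have hcount := card_mul_choose_mul G e hh
  rw [← hG S hS, hL, ← hDdef, ← hhdef] at hcount
  have hcL : c * L = Fintype.card α - k + 1 := by
    have hD0 : 0 < Nat.card (fixingSubgroup G (D : Set α)) := Nat.card_pos
    have hh0 : 0 < h := Nat.card_pos
    have e1 : h * (Fintype.card α).choose k = L * (Fintype.card α).descFactorial (k - 1) :=
      Nat.eq_of_mul_eq_mul_left hD0 (by
        calc _ = h * Nat.card (fixingSubgroup G (D : Set α)) * (Fintype.card α).choose k := by ring
          _ = _ := by rw [hcount]; ring)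
    have e2 : (Fintype.card α).descFactorial k =
        (Fintype.card α - k + 1) * (Fintype.card α).descFactorial (k - 1) := by
      conv_lhs => rw [show k = (k - 1) + 1 by omega, Nat.descFactorial_succ]
      rw [show Fintype.card α - (k - 1) = Fintype.card α - k + 1 by omega]
    refine Nat.eq_of_mul_eq_mul_right (Nat.mul_pos hd0 hh0) ?_
    calc c * L * ((Fintype.card α).descFactorial (k - 1) * h)
        = c * h * (L * (Fintype.card α).descFactorial (k - 1)) := by ring
      _ = c * h * (h * (Fintype.card α).choose k) := by rw [e1]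
      _ = h * (k.factorial * (Fintype.card α).choose k) * 1 := by rw [hck]; ring
      _ = _ := by rw [← Nat.descFactorial_eq_factorial_mul_choose, e2]; ring
  by_cases hfree : Nat.card (fixingSubgroup G (D : Set α)) = 1
  · have hf : FreeAt G k := freeAt_of_card_eq_one G fun s hs => by rw [hKD s hs, hfree]
    have hnb : Fintype.card α ≤ k - 1 + 8 := card_le_of_pretransitive (t := k - 1) (by omega)
      (by omega) htr fun g hg => by have := hf.card_fix_lt G hg; omega
    have hL0 : 0 < L := Nat.pos_of_ne_zero fun h0 => by rw [h0] at hcL; omega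
    have := Nat.le_mul_of_pos_right c hL0
    refine predCases_large G rfl (k := k + 1) (m := L) (c := c) (by omega) (by omega) (by omega)
      (by rwa [show k + 1 - 2 = k - 1 by omega]) (by simpa using hf) ?_ (by omega) (by omega) ?_
    · rw [← hG S hS, hL, hfree, show k + 1 - 2 = k - 1 by omega]; ring
    · rw [Nat.add_sub_cancel, ← hck]; exact dvd_mul_right c h
  obtain ⟨p, hp, hpd⟩ := Nat.exists_prime_and_dvd hfree
  haveI := Fact.mk hp
  obtain ⟨P₀⟩ : Nonempty (Sylow p (fixingSubgroup G (D : Set α))) := inferInstance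
  set v := (Nat.card (fixingSubgroup G (D : Set α))).factorization p with hvdef
  let P : Subgroup G := (P₀ : Subgroup (fixingSubgroup G (D : Set α))).map
    (fixingSubgroup G (D : Set α)).subtype
  have hPc : Nat.card P = p ^ v := by
    rw [Subgroup.card_map_of_injective (Subgroup.subtype_injective _)]
    exact P₀.card_eq_multiplicity
  have hPp : IsPGroup p P := IsPGroup.of_card hPc
  have hv : 1 ≤ v := hp.factorization_pos_of_dvd Nat.card_pos.ne' hpd
  let F : Finset α := univ.filter fun y => ∀ x ∈ P, x • y = y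
  have hF : ∀ y, y ∈ F ↔ ∀ x ∈ P, x • y = y := fun y => by simp [F]
  have hDF : ∀ i, e i ∈ F := fun i => (hF _).2 fun x hx => by
    obtain ⟨x, -, rfl⟩ := hx
    exact (mem_fixingSubgroup_iff G).1 x.2 _ (by simp [hDdef])
  have hFlt : F.card < Fintype.card α := by
    rw [Finset.card_lt_iff_ne_univ]
    intro hu
    have : P = ⊥ := by
      rw [Subgroup.eq_bot_iff_forall]
      intro x hx
      exact Subtype.ext (Equiv.ext fun y => (hF y).1 (hu ▸ mem_univ y) x hx)
    rw [this, Subgroup.card_bot] at hPc
    exact absurd hPc.symm (Nat.one_lt_pow (by omega) hp.one_lt).ne'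
  let N : Subgroup G := Subgroup.normalizer (P : Set G)
  have hNF : ∀ g : N, ∀ y ∈ F, (g : G) • y ∈ F := by
    intro g y hy
    refine (hF _).2 fun x hx => ?_
    have h' : (g : G)⁻¹ * x * g ∈ P := (Subgroup.mem_normalizer_iff''.1 g.2 x).1 hx
    have := (hF y).1 hy _ h'
    rwa [mul_smul, mul_smul, inv_smul_eq_iff] at this
  let X : SubMulAction N α := { carrier := ↑F, smul_mem' := fun g y hy => hNF g y hy }
  let φ : N →* Equiv.Perm ↥F :=
    { toFun := fun g => (MulAction.toPermHom N X g : Equiv.Perm ↥F)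
      map_one' := map_one (MulAction.toPermHom N X)
      map_mul' := map_mul (MulAction.toPermHom N X) }
  have hφ : ∀ (g : N) (y : ↥F), ((φ g y : ↥F) : α) = (g : G) • (y : α) := fun _ _ => rfl
  let ι : ↥F ↪ α := Function.Embedding.subtype _
  have hwk : ∀ (e₁ e₂ : Fin k ↪ ↥F) (g : G), (∀ i, g • ι (e₁ i) = ι (e₂ i)) →
      ∃ x : φ.range, ∀ i, x • e₁ i = e₂ i := by
    intro e₁ e₂ g hg
    obtain ⟨g', hg', h'⟩ := witt_lemma G hp P hF (e₁.trans ι) (e₂.trans ι)
      (fun i => (e₁ i).2) (fun i => (e₂ i).2) (by rw [hPc, hKD _ (by simp)]) g hg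
    exact ⟨⟨φ ⟨g', hg'⟩, _, rfl⟩, fun i => Subtype.ext ((hφ _ _).trans (h' i))⟩
  have hh' : IsPretransitive φ.range (Set.powersetCard ↥F k) := by
    refine ⟨fun s t => ?_⟩
    let e₁ : Fin k ↪ ↥F := ((s : Finset ↥F).equivFinOfCardEq s.2).symm.toEmbedding.trans
      (Function.Embedding.subtype _)
    let e₂ : Fin k ↪ ↥F := ((t : Finset ↥F).equivFinOfCardEq t.2).symm.toEmbedding.trans
      (Function.Embedding.subtype _)
    obtain ⟨g, σ, hg⟩ := exists_range_smul G hh (e₁.trans ι) (e₂.trans ι)
    obtain ⟨x, hx⟩ := hwk e₁ (σ.toEmbedding.trans e₂) g hg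
    refine ⟨x, Subtype.ext ?_⟩
    show x • (s : Finset ↥F) = t
    refine eq_of_subset_of_card_le ?_ (by rw [Finset.card_smul_finset, s.2, t.2])
    intro z hz
    rw [Finset.mem_smul_finset] at hz
    obtain ⟨y, hy, rfl⟩ := hz
    have hy' : y = e₁ ((s : Finset ↥F).equivFinOfCardEq s.2 ⟨y, hy⟩) := by simp [e₁]
    rw [hy', hx]
    exact (((t : Finset ↥F).equivFinOfCardEq t.2).symm _).2
  have hX : IsMultiplyPretransitive φ.range ↥F (k - 1) := by
    by_cases hpL : p ∣ L
    · refine Cfsg.Agent.S0743.result φ.range (p := p) hp (by omega) ?_ fun s hs => ?_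
      · rw [Fintype.card_coe]
        have := card_le_card (show D ⊆ F from fun y hy => by
          obtain ⟨i, -, rfl⟩ := mem_map.1 hy
          exact hDF i)
        omega
      let T : Finset α := s.map ι
      have hT : T.card = k - 1 := by simp [T, hs]
      have hTF : ∀ y ∈ T, y ∈ F := fun y hy => by
        obtain ⟨z, -, rfl⟩ := mem_map.1 hy
        exact z.2
      have hPT : P ≤ fixingSubgroup G (T : Set α) := fun x hx =>
        (mem_fixingSubgroup_iff G).2 fun y hy => (hF y).1 (hTF y hy) x hx
      obtain ⟨R₀, hR₀⟩ :=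
        ((hPp.comap_subtype : IsPGroup p (P.subgroupOf (fixingSubgroup G (T : Set α))))).exists_le_sylow
      let R : Subgroup G := (R₀ : Subgroup (fixingSubgroup G (T : Set α))).map
        (fixingSubgroup G (T : Set α)).subtype
      have hPR : P ≤ R := fun x hx => ⟨⟨x, hPT hx⟩, hR₀ hx, rfl⟩
      have hRp : IsPGroup p R := R₀.2.map _
      have hRT : R ≤ fixingSubgroup G (T : Set α) := Subgroup.map_subtype_le _
      have hPR' : P.subgroupOf R < ⊤ := by
        refine lt_top_iff_ne_top.2 fun hEq => ?_
        rw [Subgroup.subgroupOf_eq_top] at hEq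
        have hRc : Nat.card R = p ^ (Nat.card (fixingSubgroup G (T : Set α))).factorization p := by
          rw [Subgroup.card_map_of_injective (Subgroup.subtype_injective _)]
          exact R₀.card_eq_multiplicity
        rw [← le_antisymm hPR hEq, hPc, hKS T hT,
          Nat.factorization_mul Nat.card_pos.ne' (fun h0 => by rw [h0] at hcL; omega),
          Finsupp.add_apply] at hRc
        have := Nat.pow_right_injective hp.two_le hRc
        have := hp.factorization_pos_of_dvd (n := L) (fun h0 => by rw [h0] at hcL; omega) hpL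
        omega
      haveI := hRp.isNilpotent
      have hlt : P.subgroupOf R < Subgroup.normalizer ((P.subgroupOf R : Subgroup R) : Set R) :=
        Group.normalizerCondition_of_isNilpotent _ hPR'
      obtain ⟨w, hw, hwP⟩ := SetLike.exists_of_lt hlt
      let Q : Subgroup N := (R ⊓ N).subgroupOf N
      refine ⟨Q.map φ.rangeRestrict, ?_, ?_⟩
      · refine IsPGroup.map ?_ _
        exact (hRp.to_le inf_le_left).comap_subtype
      ext z
      constructor
      · intro hz
        by_contra hzs
        have hzT : (z : α) ∉ T := by simpa [T, ι] using hzs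
        have hz' : ∀ g : G, g ∈ R → g ∈ N → g • (z : α) = z := by
          intro g hgR hgN
          have := hz ⟨φ.rangeRestrict ⟨g, hgN⟩, ⟨⟨g, hgN⟩, ⟨hgR, hgN⟩, rfl⟩⟩
          exact congrArg Subtype.val this
        have hwN : (w : G) ∈ N := by
          rw [Subgroup.mem_normalizer_iff]
          intro x
          constructor
          · intro hx
            exact (Subgroup.mem_normalizer_iff.1 hw ⟨x, hPR hx⟩).1 hx
          · intro hx
            have hxR : x ∈ R := by
              have := R.mul_mem (R.mul_mem (R.inv_mem w.2) (hPR hx)) w.2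
              simpa [mul_assoc] using this
            exact (Subgroup.mem_normalizer_iff.1 hw ⟨x, hxR⟩).2 hx
        let T' : Finset α := insert (z : α) T
        have hT' : T'.card = k := by rw [card_insert_of_notMem hzT, hT]; omega
        let K : Subgroup G := fixingSubgroup G (T' : Set α)
        have hle : ∀ g : G, g ∈ R → g ∈ N → g ∈ K := fun g hgR hgN =>
          (mem_fixingSubgroup_iff G).2 fun y hy => by
            rcases mem_insert.1 (mem_coe.1 hy) with rfl | hy
            · exact hz' g hgR hgN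
            · exact (mem_fixingSubgroup_iff G).1 (hRT hgR) y hy
        have hle' : R ⊓ N ≤ K := fun g hg => hle g hg.1 hg.2
        obtain ⟨i, hi⟩ := IsPGroup.iff_card.1 (hRp.to_le (inf_le_left : R ⊓ N ≤ R))
        have hdv := Subgroup.card_dvd_of_le hle'
        rw [hi, hKD T' hT', hp.pow_dvd_iff_le_factorization Nat.card_pos.ne', ← hvdef] at hdv
        have hPN : P ≤ R ⊓ N := le_inf hPR Subgroup.le_normalizer
        have hcard : Nat.card ↥(R ⊓ N) ≤ Nat.card P := by
          rw [hi, hPc]; exact Nat.pow_le_pow_right hp.pos hdv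
        have : (w : G) ∈ P := (Subgroup.eq_of_le_of_card_ge hPN hcard) ▸ ⟨w.2, hwN⟩
        exact hwP this
      · intro hzs x
        obtain ⟨⟨g, hg⟩, hg', hgg⟩ := x.2
        refine Subtype.ext ?_
        show (((x.1 : φ.range) : Equiv.Perm ↥F) z : α) = z
        rw [← hgg]
        show g • (z : α) = z
        exact (mem_fixingSubgroup_iff G).1 (hRT hg'.1) _ (mem_coe.2 (mem_map_of_mem ι (mem_coe.1 hzs)))
    · rw [isMultiplyPretransitive_iff]
      intro x y
      haveI := htr
      obtain ⟨g, hg⟩ := MulAction.exists_smul_eq G (x.trans ι) (y.trans ι)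
      have hv' : (Nat.card (fixingSubgroup G
          ((univ.map (x.trans ι) : Finset α) : Set α))).factorization p = v := by
        rw [hKS _ (by simp), Nat.factorization_mul Nat.card_pos.ne'
          (fun h0 => by rw [h0] at hcL; omega), Finsupp.add_apply,
          Nat.factorization_eq_zero_of_not_dvd hpL, add_zero]
      obtain ⟨g', hg', h'⟩ := witt_lemma G hp P hF (x.trans ι) (y.trans ι)
        (fun i => (x i).2) (fun i => (y i).2) (by rw [hPc, hv']) g
        (fun i => DFunLike.congr_fun hg i)
      exact ⟨⟨φ ⟨g', hg'⟩, _, rfl⟩,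
        Function.Embedding.ext fun i => Subtype.ext ((hφ _ _).trans (h' i))⟩
  let e' : Fin k ↪ ↥F := ⟨fun i => ⟨e i, hDF i⟩, fun i j hij => e.injective (congrArg Subtype.val hij)⟩
  have hind : induced φ.range e' = induced G e := by
    ext σ
    constructor
    · rintro ⟨⟨_, g, rfl⟩, hg⟩
      exact ⟨g, fun i => congrArg Subtype.val (hg i)⟩
    · rintro ⟨g, hg⟩
      exact hwk e' (σ.toEmbedding.trans e') g hg
  have := ih F.card hFlt φ.range (Fintype.card_coe F) hX hh' e'
  rw [hind] at this
  omega

end Cfsg.Agent.Lib.Homog
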