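import Cfsg.Agent.Lib.Homog.Bound
import Cfsg.Agent.Lib.Homog.Basic
import Cfsg.Agent.S0736
import Cfsg.Agent.S0744
import Mathlib.Data.Nat.Factorial.Basic
import Mathlib.Tactic.NormNum.DivMod
import Mathlib.Data.Nat.Choose.Basic

/-!
The first Livingstone–Wagner theorem.
-/

set_option autoImplicit false

namespace Cfsg.Agent.Lib.Homog

open MulAction Finset

theorem homog_pred {α : Type*} [Fintype α] [DecidableEq α] (G : Subgroup (Equiv.Perm α)) {k : ℕ}
    (hk : 2 ≤ k) (hkn : 2 * k ≤ Fintype.card α + 1)
    (hh : IsPretransitive G (Set.powersetCard α k)) :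
    IsPretransitive G (Set.powersetCard α (k - 1)) :=
  Cfsg.Agent.S0736.result G hk hh fun q _ hqk => by
    have := Nat.le_of_dvd (by omega) hqk
    omega

/-- Either `j`-transitive or all `j`-point fixers are trivial. -/
theorem pretransitive_or_freeAt {α : Type*} [Fintype α] [DecidableEq α]
    (G : Subgroup (Equiv.Perm α)) {j : ℕ} (hjn : j + 1 ≤ Fintype.card α)
    (h0 : IsPretransitive G (Set.powersetCard α j))
    (h1 : IsPretransitive G (Set.powersetCard α (j + 1))) :
    IsMultiplyPretransitive G α j ∨ FreeAt G j := by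
  obtain ⟨s, -, hs⟩ := exists_subset_card_eq (s := (univ : Finset α))
    (show j ≤ (univ : Finset α).card by rw [card_univ]; omega)
  obtain ⟨t, -, ht⟩ := exists_subset_card_eq (s := (univ : Finset α))
    (show j + 1 ≤ (univ : Finset α).card by rw [card_univ]; omega)
  by_cases hl : 1 < Nat.card (fixingSubgroup G (s : Set α))
  · refine Or.inl (Cfsg.Agent.S0744.main j (Nat.card (fixingSubgroup G (s : Set α)))
      (Nat.card (fixingSubgroup G (t : Set α))) (by rwa [Nat.card_eq_fintype_card]) hl
      (fun s' hs' => card_fixing_eq_of_homog G h0 s' s hs' hs)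
      (fun t' ht' => card_fixing_eq_of_homog G h1 t' t ht' ht))
  · refine Or.inr (freeAt_of_card_eq_one G fun s' hs' => ?_)
    rw [card_fixing_eq_of_homog G h0 s' s hs' hs]
    omega

theorem four_cases : ∀ l ∈ range 4, ∀ N ∈ range 13, 5 ≤ N → N ∣ 4 * l → l ∣ 6 →
    6 ∣ (N + 1) * l → l = 2 ∧ N = 8 := by decide

set_option maxRecDepth 4000 in
theorem five_cases : ∀ l ∈ range 13, ∀ N ∈ range 61, 6 ≤ N → N ∣ 5 * l → l ∣ 24 →
    24 ∣ (N + 1) * l →
    (l = 3 ∧ N = 15) ∨ (l = 6 ∧ N = 15) ∨ (l = 8 ∧ N = 8) ∨ (l = 8 ∧ N = 20) ∨ (l = 12 ∧ N = 15) := by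
  decide

theorem sylow_contradiction {α : Type*} [Fintype α] [DecidableEq α]
    (G : Subgroup (Equiv.Perm α)) (p c d : ℕ) (hp : p.Prime) (hn : Fintype.card α < 2 * p)
    {j : ℕ} (hjp : j ≤ p) (hf : FreeAt G j)
    (hc : Nat.card G = c) (hpc : p ∣ c) (hd : d = c / Nat.gcd c (p * (p - 1)))
    (hcheck : ∀ b ∈ range (c / d + 1), ¬ ((d * b) % p = 1 ∧ d * b ∣ c)) : False := by
  obtain ⟨a, ha1, ha2, ha3⟩ := exists_sylow_count G hn hjp hf hp (hc ▸ hpc)
  rw [hc] at ha2 ha3
  have hc0 : 0 < c := hc ▸ Nat.card_pos
  have hg : 0 < Nat.gcd c (p * (p - 1)) := Nat.gcd_pos_of_pos_left _ hc0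
  have hda : d ∣ a := by
    obtain ⟨c', hc'⟩ := Nat.gcd_dvd_left c (p * (p - 1))
    obtain ⟨e, he⟩ := Nat.gcd_dvd_right c (p * (p - 1))
    have hd' : d = c' := by rw [hd]; exact Nat.div_eq_of_eq_mul_right hg hc'
    have hcop : Nat.Coprime c' e := by
      have h := Nat.coprime_div_gcd_div_gcd hg
      rwa [Nat.div_eq_of_eq_mul_right hg hc', Nat.div_eq_of_eq_mul_right hg he] at h
    rw [hd']
    refine hcop.dvd_of_dvd_mul_right ?_
    refine Nat.dvd_of_mul_dvd_mul_left hg ?_
    rw [← hc']
    calc c ∣ a * (p * (p - 1)) := ha3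
      _ = Nat.gcd c (p * (p - 1)) * (a * e) := by rw [← mul_left_comm a, ← he]
  obtain ⟨b, rfl⟩ := hda
  have hd0 : 0 < d := by
    rcases Nat.eq_zero_or_pos d with h | h
    · rw [h, zero_mul, Nat.zero_mod] at ha1; omega
    · exact h
  have hb : b ≤ c / d := by
    rw [Nat.le_div_iff_mul_le hd0, mul_comm]
    exact Nat.le_of_dvd hc0 ha2
  exact hcheck b (mem_range.2 (by omega)) ⟨ha1, ha2⟩

set_option maxRecDepth 20000 in
/-- The first Livingstone–Wagner theorem. -/
theorem livingstone_wagner_pred.{u} {α : Type u} [Fintype α] [DecidableEq α]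
    (G : Subgroup (Equiv.Perm α)) : ∀ {k : ℕ}, 2 ≤ k → 2 * k ≤ Fintype.card α →
      IsPretransitive G (Set.powersetCard α k) → IsMultiplyPretransitive G α (k - 1) := by
  classical
  intro k
  induction k with
  | zero => omega
  | succ j ih =>
    intro hk hkn hh
    rw [Nat.add_sub_cancel]
    have h0 : IsPretransitive G (Set.powersetCard α j) := by
      simpa using homog_pred G hk (by omega) hh
    rcases Nat.lt_or_ge j 2 with hj | hj
    · obtain rfl : j = 1 := by omega
      exact pretransitive_of_homog_one G h0
    rcases pretransitive_or_freeAt G (by omega) h0 hh with h | hf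
    · exact h
    by_contra hnt
    have hprev : IsMultiplyPretransitive G α (j - 1) := ih hj (by omega) h0
    set n := Fintype.card α with hn
    obtain ⟨l, hl0, hl, hG⟩ := card_eq_choose_mul G (show j ≤ n by omega) h0 hf
    obtain ⟨h, hh0, -, hG'⟩ :=
      card_eq_choose_mul G (show j + 1 ≤ n by omega) hh (hf.mono G (by omega))
    have hd := descFactorial_dvd_card G (show j - 1 ≤ n by omega) hprev
    have hlne : l ≠ j.factorial := fun he => hnt (pretransitive_of_card G hf (by
      rw [hG, he, Nat.descFactorial_eq_factorial_mul_choose, mul_comm]))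
    have key : (n - j) * h = (j + 1) * l := by
      refine Nat.eq_of_mul_eq_mul_left (Nat.choose_pos (show j ≤ n by omega)) ?_
      calc n.choose j * ((n - j) * h) = n.choose (j + 1) * (j + 1) * h := by
            rw [Nat.choose_succ_right_eq]; ring
        _ = (n.choose (j + 1) * h) * (j + 1) := by ring
        _ = n.choose j * ((j + 1) * l) := by rw [← hG', hG]; ring
    have hdl : j.factorial ∣ (n - (j - 1)) * l := by
      have h1 : j.factorial * (n.choose j * l) = n.descFactorial (j - 1) * ((n - (j - 1)) * l) := by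
        rw [← mul_assoc, ← Nat.descFactorial_eq_factorial_mul_choose]
        conv_lhs => rw [show j = (j - 1) + 1 by omega, Nat.descFactorial_succ]
        ring
      obtain ⟨c, hc⟩ := hd
      rw [hG] at hc
      refine ⟨c, Nat.eq_of_mul_eq_mul_left (Nat.descFactorial_pos (k := j - 1) (n := n) |>.2 (by omega)) ?_⟩
      rw [← h1, hc]; ring
    have hNdvd : n - j ∣ (j + 1) * l := ⟨h, key.symm⟩
    have hNle : n - j ≤ (j + 1) * l := Nat.le_of_dvd (Nat.mul_pos (by omega) hl0) hNdvd
    have hllt : 2 * l ≤ j.factorial := by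
      obtain ⟨c, hc⟩ := hl
      rcases c with _ | _ | c
      · simp [Nat.factorial_ne_zero] at hc
      · simp only [zero_add, mul_one] at hc
        exact absurd hc.symm hlne
      · rw [hc]; nlinarith
    rcases Nat.lt_or_ge j 5 with hj5 | hj5
    · interval_cases j
      · -- two
        simp only [Nat.factorial] at hl hllt
        have : l = 1 := by omega
        subst this
        omega
      · -- three
        norm_num [Nat.factorial] at hl hllt hdl
        obtain ⟨rfl, hN⟩ := four_cases l (mem_range.2 (by omega)) (n - 3) (mem_range.2 (by omega))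
          (by omega) hNdvd hl (by rwa [show n - 3 + 1 = n - 2 by omega])
        have hn11 : n = 11 := by omega
        rw [← hn, hn11] at hG
        exact sylow_contradiction G 11 330 3 (by norm_num) (by omega)
          (by norm_num) hf (by rw [hG]; decide) (by norm_num) (by norm_num) (by decide)
      · -- four
        norm_num [Nat.factorial] at hl hllt hdl
        rcases five_cases l (mem_range.2 (by omega)) (n - 4) (mem_range.2 (by omega))
          (by omega) hNdvd hl (by rwa [show n - 4 + 1 = n - 3 by omega]) with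
          ⟨rfl, hN⟩ | ⟨rfl, hN⟩ | ⟨rfl, hN⟩ | ⟨rfl, hN⟩ | ⟨rfl, hN⟩
        · have hn' : n = 19 := by omega
          rw [← hn, hn'] at hG
          exact sylow_contradiction G 19 11628 34 (by norm_num) (by omega)
            (by norm_num) hf (by rw [hG]; decide) (by norm_num) (by norm_num) (by decide)
        · have hn' : n = 19 := by omega
          rw [← hn, hn'] at hG
          exact sylow_contradiction G 19 23256 68 (by norm_num) (by omega)
            (by norm_num) hf (by rw [hG]; decide) (by norm_num) (by norm_num) (by decide)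
        · have hn' : n = 12 := by omega
          rw [← hn, hn'] at hG
          exact sylow_contradiction G 11 3960 36 (by norm_num) (by omega)
            (by norm_num) hf (by rw [hG]; decide) (by norm_num) (by norm_num) (by decide)
        · have hn' : n = 24 := by omega
          rw [← hn, hn'] at hG
          exact sylow_contradiction G 23 85008 168 (by norm_num) (by omega)
            (by norm_num) hf (by rw [hG]; decide) (by norm_num) (by norm_num) (by decide)
        · have hn' : n = 19 := by omega
          rw [← hn, hn'] at hG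
          exact sylow_contradiction G 19 46512 136 (by norm_num) (by omega)
            (by norm_num) hf (by rw [hG]; decide) (by norm_num) (by norm_num) (by decide)
    · have hbound : n ≤ j - 1 + 8 := card_le_of_pretransitive (t := j - 1) (by omega) (by omega)
        hprev (fun g hg => by have := hf.card_fix_lt G hg; omega)
      obtain rfl : j = 5 := by omega
      have hn12 : n = 12 := by omega
      norm_num [Nat.factorial, hn12] at hl key
      have h7 : 7 ∣ l := (Nat.Coprime.dvd_mul_left (show Nat.Coprime 7 6 by norm_num)).1 ⟨h, by omega⟩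
      exact absurd (h7.trans hl) (by norm_num)

end Cfsg.Agent.Lib.Homog
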