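import Cfsg.Agent.Lib.Homog.Basic
import Cfsg.Agent.Lib.Homog.DegreeBound

/-!
Point fixers in highly transitive groups, as permutation groups of the remaining points.
-/

set_option autoImplicit false

namespace Cfsg.Agent.Lib.Homog

open MulAction Finset

theorem card_fixing_mul' {M α : Type*} [Group M] [MulAction M α] [Fintype α] [DecidableEq α]
    (T : Finset α) (h : IsMultiplyPretransitive M α T.card) :
    Nat.card (fixingSubgroup M (T : Set α)) * (Fintype.card α).descFactorial T.card = Nat.card M := by
  let e : Fin T.card ↪ α := T.equivFin.symm.toEmbedding.trans (Function.Embedding.subtype _)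
  have hc : Nat.card (stabilizer M e) = Nat.card (fixingSubgroup M (T : Set α)) := by
    refine Nat.card_congr (Equiv.subtypeEquivRight fun g => ?_)
    rw [mem_stabilizer_iff, mem_fixingSubgroup_iff, Function.Embedding.ext_iff]
    constructor
    · intro hg y hy
      have := hg (T.equivFin ⟨y, hy⟩)
      simpa [e, Function.Embedding.smul_apply] using this
    · intro hg i
      simp only [Function.Embedding.smul_apply]
      exact hg _ (T.equivFin.symm i).2
  haveI := h
  rw [← hc, show (Fintype.card α).descFactorial T.card = Nat.card (Fin T.card ↪ α) by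
    rw [Nat.card_eq_fintype_card, Fintype.card_embedding_eq, Fintype.card_fin],
    ← index_stabilizer_of_transitive M e]
  exact Subgroup.card_mul_index _

theorem card_fixing_mul {α : Type*} [Fintype α] [DecidableEq α] (G : Subgroup (Equiv.Perm α))
    (T : Finset α) (h : IsMultiplyPretransitive G α T.card) :
    Nat.card (fixingSubgroup G (T : Set α)) * (Fintype.card α).descFactorial T.card = Nat.card G :=
  card_fixing_mul' T h

/-- Fixing `d` points of a group that is `(d + t)`-transitive. -/
theorem exists_tower.{u} {α : Type u} [Fintype α] [DecidableEq α] (G : Subgroup (Equiv.Perm α))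
    {s t d m j : ℕ} (hdt : d + t = s) (hsn : s ≤ Fintype.card α)
    (hs : IsMultiplyPretransitive G α s) (hG : Nat.card G = (Fintype.card α).descFactorial s * m)
    (hf : FreeAt G (j + d)) :
    ∃ (β : Type u) (_ : Fintype β) (_ : DecidableEq β) (H : Subgroup (Equiv.Perm β)),
      Fintype.card β = Fintype.card α - d ∧ IsMultiplyPretransitive H β t ∧
      Nat.card H = (Fintype.card α - d).descFactorial t * m ∧ FreeAt H j := by
  classical
  obtain ⟨T, -, hT⟩ := exists_subset_card_eq (s := (univ : Finset α))
    (show d ≤ (univ : Finset α).card by rw [card_univ]; omega)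
  let S : Set α := (T : Set α)
  let F := fixingSubgroup G S
  let β := SubMulAction.ofFixingSubgroup G S
  haveI : Fintype β := Fintype.ofFinite _
  let φ : F →* Equiv.Perm β := MulAction.toPermHom F β
  have hφ : Function.Injective φ := by
    rw [injective_iff_map_eq_one]
    intro g hg
    refine Subtype.ext (Subtype.ext (Equiv.ext fun y => ?_))
    by_cases hy : y ∈ S
    · exact (mem_fixingSubgroup_iff G).1 g.2 y hy
    · exact congrArg Subtype.val (Equiv.ext_iff.1 hg ⟨y, hy⟩)
  have hS : S.ncard = d := (Set.ncard_coe_finset T).trans hT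
  haveI := hs
  have hFt : IsMultiplyPretransitive F β t :=
    SubMulAction.ofFixingSubgroup.isMultiplyPretransitive G S (n := s) (by rw [hS]; exact hdt)
  have hcard : Fintype.card β = Fintype.card α - d := by
    rw [← Nat.card_eq_fintype_card, ← hS, ← Nat.card_eq_fintype_card (α := α), ← Set.ncard_compl]
    exact Nat.card_coe_set_eq _
  refine ⟨β, inferInstance, inferInstance, φ.range, hcard, ?_, ?_, ?_⟩
  · rw [isMultiplyPretransitive_iff]
    intro x y
    obtain ⟨g, hg⟩ := hFt.exists_smul_eq x y
    exact ⟨⟨φ g, g, rfl⟩, Function.Embedding.ext fun i => DFunLike.congr_fun hg i⟩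
  · rw [Nat.card_congr (MonoidHom.ofInjective hφ).toEquiv.symm]
    have h := card_fixing_mul G T (hT ▸ isMultiplyPretransitive_of_le (n := s) (by omega)
      (by rwa [Nat.card_eq_fintype_card]))
    rw [hT, hG, ← Nat.descFactorial_mul_descFactorial (show d ≤ s by omega),
      show s - d = t by omega] at h
    refine Nat.eq_of_mul_eq_mul_right
      ((Nat.descFactorial_pos (n := Fintype.card α) (k := d)).2 (by omega)) ?_
    rw [h]; ring
  · rintro ⟨_, g, rfl⟩ U hU hg
    refine Subtype.ext (?_ : φ g = 1)
    have : g = 1 := Subtype.ext (hf _ (T ∪ U.map (Function.Embedding.subtype _)) ?_ ?_)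
    · rw [this, map_one]
    · rw [card_union_of_disjoint, card_map, hT, hU, add_comm]
      rw [disjoint_left]
      intro y hy hy'
      obtain ⟨z, -, rfl⟩ := mem_map.1 hy'
      exact z.2 hy
    · intro y hy
      rcases mem_union.1 hy with hy | hy
      · exact (mem_fixingSubgroup_iff G).1 g.2 y hy
      · obtain ⟨z, hz, rfl⟩ := mem_map.1 hy
        exact congrArg Subtype.val (hg z hz)

theorem four_trans_odd' {M β : Type*} [Group M] [MulAction M β] [Fintype β] [DecidableEq β] [Finite M]
    {m : ℕ} (h4 : IsMultiplyPretransitive M β 4) (hn : 7 ≤ Fintype.card β)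
    (hM : Nat.card M = (Fintype.card β).descFactorial 4 * m)
    (hf : ∀ g : M, g ≠ 1 → (univ.filter fun y : β => g • y = y).card ≤ 4) (hm : ¬ 2 ∣ m) :
    Fintype.card β = 11 ∨ (Fintype.card β = 7 ∧ m = 3) := by
  classical
  haveI := Fintype.ofFinite M
  have hyp : Hyp M β := ⟨fun a b => h4.exists_smul_eq a b, hf⟩
  obtain ⟨e⟩ : Nonempty (Fin 4 ↪ β) :=
    Function.Embedding.nonempty_of_card_le (by rw [Fintype.card_fin]; omega)
  haveI := h4
  have hc : Nat.card (stabilizer M e) = m := by
    have h := (stabilizer M e).card_mul_index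
    rw [index_stabilizer_of_transitive M e, hM, Nat.card_eq_fintype_card (α := Fin 4 ↪ β),
      Fintype.card_embedding_eq, Fintype.card_fin] at h
    exact Nat.eq_of_mul_eq_mul_right ((Nat.descFactorial_pos).2 (by omega)) (h.trans (mul_comm _ _))
  have := odd_case hyp hn e (hc.symm ▸ hm)
  rwa [hc] at this

/-- A sharply 4-transitive group, and more generally one with odd four-point stabiliser. -/
theorem four_trans_odd {β : Type*} [Fintype β] [DecidableEq β] (H : Subgroup (Equiv.Perm β))
    {m : ℕ} (h4 : IsMultiplyPretransitive H β 4) (hn : 7 ≤ Fintype.card β)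
    (hH : Nat.card H = (Fintype.card β).descFactorial 4 * m) (hf : FreeAt H 5) (hm : ¬ 2 ∣ m) :
    Fintype.card β = 11 ∨ (Fintype.card β = 7 ∧ m = 3) := by
  classical
  exact four_trans_odd' h4 hn hH (fun g hg => by
    have := hf.card_fix_lt H hg
    omega) hm

end Cfsg.Agent.Lib.Homog
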