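import Cfsg.Agent.Lib.Homog.Livingstone
import Cfsg.Agent.Lib.Homog.Tower
import Mathlib.GroupTheory.SpecificGroups.Alternating

/-!
`(k-2)`-transitive groups that are `(k-1)`- and `k`-homogeneous but not `(k-1)`-transitive.
-/

set_option autoImplicit false

namespace Cfsg.Agent.Lib.Homog

open MulAction Finset
open scoped Pointwise

variable {α : Type*} [Fintype α] [DecidableEq α]

theorem eq_alternating {G : Subgroup (Equiv.Perm α)} {n c : ℕ} (hn : Fintype.card α = n)
    (hG : Nat.card G = c) (hc : 2 * c = n.factorial) : G = alternatingGroup α := by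
  refine Equiv.Perm.eq_alternatingGroup_of_index_eq_two ?_
  have h := G.card_mul_index
  rw [hG, Nat.card_perm, Nat.card_eq_fintype_card, hn, ← hc] at h
  have hc0 : 0 < c := hG ▸ Nat.card_pos
  exact Nat.eq_of_mul_eq_mul_left hc0 (h.trans (mul_comm _ _))

/-- With a set stabiliser of odd order no involution fixes `j - 2` points. -/
theorem no_invol_of_odd (G : Subgroup (Equiv.Perm α)) {j l : ℕ} (hj : 2 ≤ j)
    (h : IsPretransitive G (Set.powersetCard α j))
    (hG : Nat.card G = (Fintype.card α).choose j * l) (hl : ¬ 2 ∣ l) (g : G) (hg : g ≠ 1)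
    (hgg : g * g = 1) : (univ.filter fun y : α => g • y = y).card < j - 2 := by
  by_contra hlt
  obtain ⟨U, hUF, hU⟩ := exists_subset_card_eq
    (show j - 2 ≤ (univ.filter fun y : α => g • y = y).card by omega)
  obtain ⟨a, ha⟩ : ∃ a : α, g • a ≠ a := by
    by_contra hall
    push Not at hall
    exact hg (Subtype.ext (Equiv.ext hall))
  have hfixU : ∀ y ∈ U, g • y = y := fun y hy => (mem_filter.1 (hUF hy)).2
  have hga : g • g • a = a := by rw [← mul_smul, hgg, one_smul]
  have haU : a ∉ U := fun h => ha (hfixU a h)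
  have hgaU : g • a ∉ U := fun h => ha (MulAction.injective g (hfixU _ h))
  set S : Finset α := insert a (insert (g • a) U) with hS
  have hSc : S.card = j := by
    rw [hS, card_insert_of_notMem (by simp [Ne.symm ha, haU]), card_insert_of_notMem hgaU, hU]
    omega
  have hstab : g • S = S := by
    rw [hS, smul_finset_insert, smul_finset_insert, hga, Finset.insert_comm (g • a) a]
    congr 2
    ext y
    rw [Finset.mem_smul_finset]
    exact ⟨fun ⟨x, hx, hxy⟩ => by rw [← hxy, hfixU x hx]; exact hx, fun hy => ⟨y, hy, hfixU y hy⟩⟩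
  let e : Set.powersetCard α j := ⟨S, hSc⟩
  haveI := h
  have hc : Nat.card (stabilizer G e) = l := by
    have h' := (stabilizer G e).card_mul_index
    rw [index_stabilizer_of_transitive G e, hG, Set.powersetCard.card, Nat.card_eq_fintype_card (α := α),
      mul_comm] at h'
    refine Nat.eq_of_mul_eq_mul_left (Nat.choose_pos ?_) h'
    rw [← hSc]; exact card_le_univ _
  refine hl (hc ▸ ?_)
  have hmem : g ∈ stabilizer G e := Subtype.ext hstab
  have hord : orderOf (⟨g, hmem⟩ : stabilizer G e) = 2 := by
    rw [Subgroup.orderOf_mk]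
    exact orderOf_eq_prime (by rw [pow_two, hgg]) hg
  exact hord ▸ orderOf_dvd_natCard _

theorem exists_invol {M : Type*} [Group M] [Finite M] (h : 2 ∣ Nat.card M) :
    ∃ g : M, g ≠ 1 ∧ g * g = 1 := by
  obtain ⟨g, hg⟩ := exists_prime_orderOf_dvd_card' 2 h
  exact ⟨g, fun h' => by simp [h'] at hg, by rw [← sq, ← hg, pow_orderOf_eq_one]⟩

theorem fix_mod_two {G : Subgroup (Equiv.Perm α)} {g : G} (hgg : g * g = 1) :
    (univ.filter fun y : α => g • y = y).card % 2 = Fintype.card α % 2 :=
  card_fix_modEq (g : Equiv.Perm α) Nat.prime_two (by rw [pow_two, ← Subgroup.coe_mul, hgg]; rfl)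

theorem not_deg_six_order_sixty (G : Subgroup (Equiv.Perm α)) (hn : Fintype.card α = 6)
    (h2 : IsMultiplyPretransitive G α 2) (h3 : IsPretransitive G (Set.powersetCard α 3))
    (hG : Nat.card G = 60) : False := by
  obtain ⟨T, -, hT⟩ := exists_subset_card_eq (s := (univ : Finset α))
    (show 2 ≤ (univ : Finset α).card by rw [card_univ, hn]; norm_num)
  have h := card_fixing_mul G T (hT.symm ▸ h2)
  rw [hT, hn, hG, show Nat.descFactorial 6 2 = 30 by rfl] at h
  obtain ⟨g, hg, hgg⟩ := exists_invol (M := fixingSubgroup G (T : Set α)) (by omega)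
  have hlt := no_invol_of_odd G (j := 3) (l := 3) (by norm_num) h3
    (by rw [hG, hn]; rfl) (by norm_num) g (fun h' => hg (Subtype.ext h'))
    (congrArg Subtype.val hgg)
  have := card_le_card (s := T) (t := univ.filter fun y : α => (g : G) • y = y)
    (fun y hy => mem_filter.2 ⟨mem_univ _, (mem_fixingSubgroup_iff G).1 g.2 y hy⟩)
  omega

theorem not_deg_five_order_ten (G : Subgroup (Equiv.Perm α)) (hn : Fintype.card α = 5)
    (h2 : IsPretransitive G (Set.powersetCard α 2)) (hG : Nat.card G = 10) : False := by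
  obtain ⟨g, hg, hgg⟩ := exists_invol (M := G) (by omega)
  have := no_invol_of_odd G (j := 2) (l := 1) le_rfl h2 (by rw [hG, hn]; rfl) (by norm_num) g hg hgg
  omega

theorem not_sharp_three_deg_seven (G : Subgroup (Equiv.Perm α)) (hn : Fintype.card α = 7)
    (h3 : IsMultiplyPretransitive G α 3) (hG : Nat.card G = 210) : False := by
  have hfree : FreeAt G 3 := freeAt_of_card_eq_one G fun T hT => by
    have h := card_fixing_mul G T (hT.symm ▸ h3)
    rw [hT, hn, hG, show Nat.descFactorial 7 3 = 210 by rfl] at h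
    omega
  obtain ⟨β, _, _, H, hβ, -, hH, hfH⟩ := exists_tower G (d := 1) (t := 2) (m := 1) (j := 2)
    (s := 3) rfl (by omega) h3 (by rw [hG, hn]; rfl) hfree
  rw [hn] at hβ hH
  rw [show (7 - 1 : ℕ).descFactorial 2 * 1 = 30 by rfl] at hH
  obtain ⟨g, hg, hgg⟩ := exists_invol (M := H) (by omega)
  have hfix := hfH.card_fix_lt H hg
  have hpar := fix_mod_two hgg
  have h0 : (univ.filter fun y : β => g • y = y).card = 0 := by omega
  have hsign : Equiv.Perm.sign (g : Equiv.Perm β) = -1 := by
    rw [Equiv.Perm.sign_of_pow_two_eq_one (by rw [pow_two, ← Subgroup.coe_mul, hgg]; rfl)]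
    have : Fintype.card (Function.fixedPoints (g : Equiv.Perm β)) = 0 := by
      refine Fintype.card_eq_zero_iff.2 ⟨fun y => ?_⟩
      have : (y : β) ∈ univ.filter fun z : β => g • z = z := mem_filter.2 ⟨mem_univ _, y.2⟩
      rw [card_eq_zero.1 h0] at this
      exact absurd this (notMem_empty _)
    rw [this, hβ]
    rfl
  let φ : H →* ℤˣ := Equiv.Perm.sign.comp H.subtype
  have hrange : φ.range = ⊤ := by
    refine eq_top_iff.2 fun u _ => ?_
    rcases Int.units_eq_one_or u with rfl | rfl
    · exact one_mem _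
    · exact ⟨g, hsign⟩
  have hker : Nat.card φ.ker = 15 := by
    have h := φ.ker.card_mul_index
    rw [Subgroup.index_ker, hrange, Subgroup.card_top, Nat.card_eq_fintype_card (α := ℤˣ),
      Fintype.card_units_int, hH] at h
    omega
  have hK : Nat.card (φ.ker.map H.subtype) = 15 := by
    rw [Subgroup.card_map_of_injective H.subtype_injective, hker]
  exact sylow_contradiction (φ.ker.map H.subtype) 5 15 3 (by norm_num) (by omega) le_rfl
    (freeAt_of_card_le _ (by omega)) hK (by norm_num) (by norm_num) (by decide)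

set_option maxRecDepth 4000 in
theorem four_cases' : ∀ l ∈ range 4, ∀ N ∈ range 13, 1 ≤ N → N ∣ 4 * l → l ∣ 6 →
    6 ∣ (N + 1) * l → (l = 2 ∧ N = 2) ∨ (l = 2 ∧ N = 8) ∨ (l = 3 ∧ N = 1) ∨ (l = 3 ∧ N = 3) := by
  decide

set_option maxRecDepth 4000 in
theorem five_cases' : ∀ l ∈ range 13, ∀ N ∈ range 61, 1 ≤ N → N ∣ 5 * l → l ∣ 24 →
    24 ∣ (N + 1) * l →
    (l = 3 ∧ N = 15) ∨ (l = 4 ∧ N = 5) ∨ (l = 6 ∧ N = 3) ∨ (l = 6 ∧ N = 15) ∨ (l = 8 ∧ N = 2) ∨
    (l = 8 ∧ N = 5) ∨ (l = 8 ∧ N = 8) ∨ (l = 8 ∧ N = 20) ∨ (l = 12 ∧ N = 1) ∨ (l = 12 ∧ N = 3) ∨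
    (l = 12 ∧ N = 5) ∨ (l = 12 ∧ N = 15) := by
  decide

set_option maxRecDepth 20000 in
theorem predCases_large (G : Subgroup (Equiv.Perm α)) {n k m c : ℕ} (hn : Fintype.card α = n)
    (hk : 6 ≤ k) (hkn : k < n) (hnb : n ≤ k + 6) (htr : IsMultiplyPretransitive G α (k - 2))
    (hf : FreeAt G (k - 1)) (hG : Nat.card G = n.descFactorial (k - 2) * m)
    (hc : c * m = n - k + 2) (hc2 : 2 ≤ c) (hcf : c ∣ (k - 1).factorial) : False := by
  subst hn
  -- the group on `N + 1 + t` points
  have tower : ∀ t, t ≤ k - 2 → ∃ (β : Type _) (_ : Fintype β) (_ : DecidableEq β)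
      (H : Subgroup (Equiv.Perm β)), Fintype.card β = Fintype.card α - (k - 2 - t) ∧
      IsMultiplyPretransitive H β t ∧
      Nat.card H = (Fintype.card α - (k - 2 - t)).descFactorial t * m ∧ FreeAt H (t + 1) :=
    fun t ht => exists_tower G (d := k - 2 - t) (t := t) (j := t + 1) (s := k - 2) (by omega)
      (by omega) htr hG (by rwa [show t + 1 + (k - 2 - t) = k - 1 by omega])
  have h7 : 7 ∣ k.factorial → 7 ≤ k := fun h => (Nat.Prime.dvd_factorial (by norm_num)).1 h
  have h7' : c = 7 → 8 ≤ k := fun h => by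
    have := (Nat.Prime.dvd_factorial (show Nat.Prime 7 by norm_num)).1 (h ▸ hcf)
    omega
  set N := Fintype.card α - k + 1 with hNdef
  have hN7 : N ≤ 7 := by omega
  have hN2 : 2 ≤ N := by omega
  have hcm : c * m = N + 1 := by omega
  have hm0 : 0 < m := Nat.pos_of_ne_zero fun h => by simp [h] at hcm
  have hmN : m ≤ (N + 1) / 2 := by
    rw [Nat.le_div_iff_mul_le (by norm_num), ← hcm, mul_comm]
    exact Nat.mul_le_mul_right m hc2
  have deg : ∀ t, t ≤ k - 2 → Fintype.card α - (k - 2 - t) = N + 1 + t := fun t ht => by omega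
  obtain ⟨β, _, _, H, hβ, hHt, hH, hfH⟩ := tower 4 (by omega)
  rw [deg 4 (by omega)] at hβ hH
  rw [← hβ] at hH
  by_cases hm2 : 2 ∣ m
  · have hcases : (N = 3 ∧ m = 2) ∨ (N = 5 ∧ m = 2) ∨ (N = 7 ∧ m = 2) ∨ (N = 7 ∧ m = 4) := by
      have : c ≤ 8 := by
        have := Nat.le_mul_of_pos_right c hm0
        omega
      have : m ≤ 4 := by omega
      interval_cases c <;> interval_cases m <;> omega
    obtain ⟨γ, _, _, K, hγ, -, hK, hfK⟩ := tower 3 (by omega)
    rw [deg 3 (by omega)] at hγ hK
    rcases hcases with ⟨hN', rfl⟩ | ⟨hN', rfl⟩ | ⟨hN', rfl⟩ | ⟨hN', rfl⟩ <;> rw [hN'] at hγ hK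
    · exact sylow_contradiction K 7 420 10 (by norm_num) (by omega) (by norm_num) hfK
        (by rw [hK]; rfl) (by norm_num) (by norm_num) (by decide)
    · exact sylow_contradiction K 7 1008 24 (by norm_num) (by omega) (by norm_num) hfK
        (by rw [hK]; rfl) (by norm_num) (by norm_num) (by decide)
    · exact sylow_contradiction K 11 1980 18 (by norm_num) (by omega) (by norm_num) hfK
        (by rw [hK]; rfl) (by norm_num) (by norm_num) (by decide)
    · exact sylow_contradiction K 11 3960 36 (by norm_num) (by omega) (by norm_num) hfK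
        (by rw [hK]; rfl) (by norm_num) (by norm_num) (by decide)
  · rcases four_trans_odd H hHt (by omega) hH hfH hm2 with h11 | ⟨h, h3⟩
    · have hN6 : N = 6 := by omega
      have hm1 : m = 1 := by
        rw [hN6] at hcm
        rcases (Nat.dvd_prime (show Nat.Prime 7 by norm_num)).1 ⟨m, hcm.symm⟩ with h | h
        · omega
        · rw [h] at hcm; omega
      have hc7 : c = 7 := by rw [hm1, hN6] at hcm; omega
      obtain ⟨γ, _, _, K, hγ, -, hK, hfK⟩ := tower 6 (by have := h7' hc7; omega)
      rw [deg 6 (by have := h7' hc7; omega), hN6] at hγ hK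
      rw [hm1] at hK
      exact sylow_contradiction K 13 1235520 7920 (by norm_num) (by omega) (by norm_num) hfK
        (by rw [hK]; rfl) (by norm_num) (by rfl) (by decide)
    · subst h3
      omega

set_option maxRecDepth 20000 in
/-- The first case list of Livingstone and Wagner. -/
theorem pred_cases (G : Subgroup (Equiv.Perm α)) {k : ℕ} (hk : 3 ≤ k) (hkn : k ≤ Fintype.card α)
    (ht : IsMultiplyPretransitive G α (k - 2)) (hnt : ¬ IsMultiplyPretransitive G α (k - 1))
    (hh1 : IsPretransitive G (Set.powersetCard α (k - 1)))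
    (hh : IsPretransitive G (Set.powersetCard α k)) :
    (k = Fintype.card α ∧ G = alternatingGroup α) ∨
      (Fintype.card α = 5 ∧ k = 4 ∧ Nat.card G = 20) ∨
      (Fintype.card α = 6 ∧ k = 5 ∧ Nat.card G = 120) ∨
      (Fintype.card α = 9 ∧ k = 5 ∧ (Nat.card G = 504 ∨ Nat.card G = 1512)) := by
  classical
  obtain ⟨j, rfl⟩ : ∃ j, k = j + 1 := ⟨k - 1, by omega⟩
  simp only [Nat.add_sub_cancel] at hnt hh1
  rw [show j + 1 - 2 = j - 1 by omega] at ht
  have hf : FreeAt G j := (pretransitive_or_freeAt G hkn hh1 hh).resolve_left hnt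
  set n := Fintype.card α with hn
  obtain ⟨l, hl0, hl, hG⟩ := card_eq_choose_mul G (show j ≤ n by omega) hh1 hf
  obtain ⟨h, hh0, hhl, hG'⟩ :=
    card_eq_choose_mul G (show j + 1 ≤ n by omega) hh (hf.mono G (by omega))
  rw [← hn] at hG hG'
  have hd := descFactorial_dvd_card G (show j - 1 ≤ n by omega) ht
  rw [← hn] at hd
  have hlne : l ≠ j.factorial := fun he => hnt (pretransitive_of_card G hf (by
    rw [hG, he, ← hn, Nat.descFactorial_eq_factorial_mul_choose, mul_comm]))
  have key : (n - j) * h = (j + 1) * l := by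
    refine Nat.eq_of_mul_eq_mul_left (Nat.choose_pos (show j ≤ n by omega)) ?_
    calc n.choose j * ((n - j) * h) = n.choose (j + 1) * (j + 1) * h := by
          rw [Nat.choose_succ_right_eq]; ring
      _ = (n.choose (j + 1) * h) * (j + 1) := by ring
      _ = n.choose j * ((j + 1) * l) := by rw [← hG', hG]; ring
  have hdl : j.factorial ∣ (n - (j - 1)) * l := by
    have h1 : j.factorial * (n.choose j * l) = n.descFactorial (j - 1) * ((n - (j - 1)) * l) := by
      rw [← mul_assoc, ← Nat.descFactorial_eq_factorial_mul_choose]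
      conv_lhs => rw [show j = (j - 1) + 1 by omega, Nat.descFactorial_succ]
      ring
    obtain ⟨c, hc⟩ := hd
    rw [hG] at hc
    refine ⟨c, Nat.eq_of_mul_eq_mul_left (Nat.descFactorial_pos (k := j - 1) (n := n) |>.2 (by omega)) ?_⟩
    rw [← h1, hc]; ring
  obtain ⟨c, hc⟩ := hl
  have hc2 : 2 ≤ c := by
    rcases c with _ | _ | c
    · simp [Nat.factorial_ne_zero] at hc
    · simp only [zero_add, mul_one] at hc
      exact absurd hc.symm hlne
    · omega
  have hllt : 2 * l ≤ j.factorial := by rw [hc]; nlinarith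
  have hl : l ∣ j.factorial := ⟨c, hc⟩
  have hNdvd : n - j ∣ (j + 1) * l := ⟨h, key.symm⟩
  have hNle : n - j ≤ (j + 1) * l := Nat.le_of_dvd (Nat.mul_pos (by omega) hl0) hNdvd
  rcases Nat.lt_or_ge j 5 with hj5 | hj5
  · have hj2 : 2 ≤ j := by omega
    interval_cases j
    · -- two
      simp only [Nat.factorial] at hc hllt
      have : l = 1 := by omega
      subst this
      rcases (Nat.dvd_prime Nat.prime_three).1 (show n - 2 ∣ 3 by simpa using hNdvd) with hN | hN
      · have hn' : n = 3 := by omega
        rw [hn'] at hG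
        exact Or.inl ⟨by omega, eq_alternating (hn.symm.trans hn') hG rfl⟩
      · have hn' : n = 5 := by omega
        rw [hn'] at hG
        exact (not_deg_five_order_ten G (hn.symm.trans hn') hh1 (by rw [hG]; rfl)).elim
    · -- three
      norm_num [Nat.factorial] at hl hllt hdl
      rcases four_cases' l (mem_range.2 (by omega)) (n - 3) (mem_range.2 (by omega)) (by omega)
        hNdvd hl (by rwa [show n - 3 + 1 = n - 2 by omega]) with
        ⟨rfl, hN⟩ | ⟨rfl, hN⟩ | ⟨rfl, hN⟩ | ⟨rfl, hN⟩
      · have hn' : n = 5 := by omega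
        rw [hn'] at hG
        exact Or.inr (Or.inl ⟨hn', rfl, by rw [hG]; rfl⟩)
      · have hn' : n = 11 := by omega
        rw [hn'] at hG
        exact (sylow_contradiction G 11 330 3 (by norm_num) (by omega) (by norm_num) hf
          (by rw [hG]; decide) (by norm_num) (by norm_num) (by decide)).elim
      · have hn' : n = 4 := by omega
        rw [hn'] at hG
        exact Or.inl ⟨by omega, eq_alternating (hn.symm.trans hn') hG rfl⟩
      · have hn' : n = 6 := by omega
        rw [hn'] at hG
        exact (not_deg_six_order_sixty G (hn.symm.trans hn') ht hh1 (by rw [hG]; rfl)).elim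
    · -- four
      norm_num [Nat.factorial] at hl hllt hdl
      rcases five_cases' l (mem_range.2 (by omega)) (n - 4) (mem_range.2 (by omega)) (by omega)
        hNdvd hl (by rwa [show n - 4 + 1 = n - 3 by omega]) with
        ⟨rfl, hN⟩ | ⟨rfl, hN⟩ | ⟨rfl, hN⟩ | ⟨rfl, hN⟩ | ⟨rfl, hN⟩ | ⟨rfl, hN⟩ | ⟨rfl, hN⟩ |
        ⟨rfl, hN⟩ | ⟨rfl, hN⟩ | ⟨rfl, hN⟩ | ⟨rfl, hN⟩ | ⟨rfl, hN⟩
      · have hn' : n = 19 := by omega
        rw [hn'] at hG
        exact (sylow_contradiction G 19 11628 34 (by norm_num) (by omega) (by norm_num) hf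
          (by rw [hG]; decide) (by norm_num) (by norm_num) (by decide)).elim
      · have hn' : n = 9 := by omega
        rw [hn'] at hG
        exact Or.inr (Or.inr (Or.inr ⟨hn', rfl, Or.inl (by rw [hG]; rfl)⟩))
      · have hn' : n = 7 := by omega
        rw [hn'] at hG
        exact (not_sharp_three_deg_seven G (hn.symm.trans hn') ht (by rw [hG]; rfl)).elim
      · have hn' : n = 19 := by omega
        rw [hn'] at hG
        exact (sylow_contradiction G 19 23256 68 (by norm_num) (by omega) (by norm_num) hf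
          (by rw [hG]; decide) (by norm_num) (by norm_num) (by decide)).elim
      · have hn' : n = 6 := by omega
        rw [hn'] at hG
        exact Or.inr (Or.inr (Or.inl ⟨hn', rfl, by rw [hG]; rfl⟩))
      · have hn' : n = 9 := by omega
        rw [hn'] at hG
        exact (sylow_contradiction G 7 1008 24 (by norm_num) (by omega) (by norm_num) hf
          (by rw [hG]; decide) (by norm_num) (by norm_num) (by decide)).elim
      · have hn' : n = 12 := by omega
        rw [hn'] at hG
        exact (sylow_contradiction G 11 3960 36 (by norm_num) (by omega) (by norm_num) hf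
          (by rw [hG]; decide) (by norm_num) (by norm_num) (by decide)).elim
      · have hn' : n = 24 := by omega
        rw [hn'] at hG
        exact (sylow_contradiction G 23 85008 168 (by norm_num) (by omega) (by norm_num) hf
          (by rw [hG]; decide) (by norm_num) (by norm_num) (by decide)).elim
      · have hn' : n = 5 := by omega
        rw [hn'] at hG
        exact Or.inl ⟨by omega, eq_alternating (hn.symm.trans hn') hG rfl⟩
      · have hn' : n = 7 := by omega
        rw [hn'] at hG
        exact (sylow_contradiction G 7 420 10 (by norm_num) (by omega) (by norm_num) hf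
          (by rw [hG]; decide) (by norm_num) (by norm_num) (by decide)).elim
      · have hn' : n = 9 := by omega
        rw [hn'] at hG
        exact Or.inr (Or.inr (Or.inr ⟨hn', rfl, Or.inr (by rw [hG]; rfl)⟩))
      · have hn' : n = 19 := by omega
        rw [hn'] at hG
        exact (sylow_contradiction G 19 46512 136 (by norm_num) (by omega) (by norm_num) hf
          (by rw [hG]; decide) (by norm_num) (by norm_num) (by decide)).elim
  · -- large
    have hnb : n ≤ j - 1 + 8 := card_le_of_pretransitive (t := j - 1) (by omega) (by omega)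
      ht (fun g hg => by have := hf.card_fix_lt G hg; omega)
    have hcdvd : c ∣ n - (j - 1) := by
      rw [hc, mul_comm (n - (j - 1))] at hdl
      exact Nat.dvd_of_mul_dvd_mul_left hl0 hdl
    obtain ⟨m, hm⟩ := hcdvd
    have hG2 : Nat.card G = n.descFactorial (j - 1) * m := by
      refine Nat.eq_of_mul_eq_mul_right (show 0 < c * l from Nat.mul_pos (by omega) hl0) ?_
      calc Nat.card G * (c * l) = n.choose j * j.factorial * l := by rw [hG, hc]; ring
        _ = n.descFactorial (j - 1 + 1) * l := by
          rw [show j - 1 + 1 = j by omega, Nat.descFactorial_eq_factorial_mul_choose]; ring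
        _ = n.descFactorial (j - 1) * m * (c * l) := by rw [Nat.descFactorial_succ, hm]; ring
    rcases eq_or_lt_of_le hkn with heq | hlt
    · refine Or.inl ⟨heq, eq_alternating hn.symm hG ?_⟩
      have hch : n.choose j = j + 1 := by rw [← heq, Nat.choose_succ_self_right]
      have hc' : c = 2 := by
        have := Nat.le_mul_of_pos_right c (show 0 < m from Nat.pos_of_ne_zero fun h => by
          rw [h, mul_zero] at hm; omega)
        omega
      rw [hch, ← heq, Nat.factorial_succ, hc, hc']
      ring
    · refine (predCases_large G hn.symm (k := j + 1) (by omega) hlt (by omega)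
        (by rwa [show j + 1 - 2 = j - 1 by omega]) (by simpa using hf)
        (by rwa [show j + 1 - 2 = j - 1 by omega]) (c := c) ?_ hc2 ?_).elim
      · rw [← hm]; omega
      · rw [Nat.add_sub_cancel]; exact ⟨l, by rw [hc, mul_comm]⟩

end Cfsg.Agent.Lib.Homog
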